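import Cfsg.Prelude.Def_Local
import Cfsg.Agent.Lib.Helper1.Cores
import Cfsg.Agent.Lib.Helper1.Misc
import Cfsg.Agent.Lib.Helper1.Coprime2
import Mathlib

set_option autoImplicit false

namespace Cfsg.Agent.Lib.Helper9.PSolv

variable {G : Type*} [Group G]

/-- the factor `M / N` is a `p`-group or a `p'`-group -/
def Fac (p : ℕ) (N M : Subgroup G) : Prop :=
  (∃ m : ℕ, N.relIndex M = p ^ m) ∨ (N.relIndex M).Coprime p

/-- induction up a `p`-solvable chain -/
theorem ascent {p : ℕ} (hG : Cfsg.IsPSolvable p G) (Pr : Subgroup G → Prop) (h0 : Pr ⊥)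
    (step : ∀ N M : Subgroup G, N.Normal → M.Normal → N ≤ M → Fac p N M → Pr N → Pr M) :
    Pr ⊤ := by
  obtain ⟨n, H, hH0, hHn, hmono, hnorm, hfac⟩ := hG
  have key : ∀ i : Fin (n + 1), Pr (H i) := by
    intro i
    induction i using Fin.induction with
    | zero => rw [hH0]; exact h0
    | succ i ih =>
      exact step _ _ (hnorm _) (hnorm _) (hmono (Fin.castSucc_le_succ i)) (hfac i) ih
  rw [← hHn]
  exact key _

/-- induction down a `p`-solvable chain -/
theorem descent {p : ℕ} (hG : Cfsg.IsPSolvable p G) (Pr : Subgroup G → Prop) (h0 : Pr ⊤)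
    (step : ∀ N M : Subgroup G, N.Normal → M.Normal → N ≤ M → Fac p N M → Pr M → Pr N) :
    Pr ⊥ := by
  obtain ⟨n, H, hH0, hHn, hmono, hnorm, hfac⟩ := hG
  have key : ∀ i : Fin (n + 1), Pr (H i) := by
    intro i
    induction i using Fin.reverseInduction with
    | last => rw [hHn]; exact h0
    | cast i ih =>
      exact step _ _ (hnorm _) (hnorm _) (hmono (Fin.castSucc_le_succ i)) (hfac i) ih
  rw [← hH0]
  exact key _

theorem relIndex_map_dvd {G' : Type*} [Group G'] (f : G →* G') (N M : Subgroup G) :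
    (N.map f).relIndex (M.map f) ∣ N.relIndex M := by
  rw [← Subgroup.relIndex_comap]
  exact Subgroup.relIndex_dvd_of_le_left M (Subgroup.le_comap_map f N)

theorem Fac.map {p : ℕ} (hp : p.Prime) {G' : Type*} [Group G'] (f : G →* G') {N M : Subgroup G}
    (h : Fac p N M) : Fac p (N.map f) (M.map f) := by
  rcases h with ⟨m, hm⟩ | h
  · left
    have := relIndex_map_dvd f N M
    rw [hm] at this
    obtain ⟨k, _, hk⟩ := (Nat.dvd_prime_pow hp).1 this
    exact ⟨k, hk⟩
  · right
    exact Nat.Coprime.coprime_dvd_left (relIndex_map_dvd f N M) h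

theorem of_surjective {p : ℕ} (hp : p.Prime) {G' : Type*} [Group G'] (f : G →* G')
    (hf : Function.Surjective f) (hG : Cfsg.IsPSolvable p G) : Cfsg.IsPSolvable p G' := by
  obtain ⟨n, H, hH0, hHn, hmono, hnorm, hfac⟩ := hG
  refine ⟨n, fun i => (H i).map f, ?_, ?_, ?_, ?_, ?_⟩
  · simp [hH0]
  · simp only [hHn]
    exact Subgroup.map_top_of_surjective f hf
  · intro i j hij
    exact Subgroup.map_mono (hmono hij)
  · intro i
    exact (hnorm i).map f hf
  · intro i
    exact Fac.map hp f (hfac i)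

theorem quotient {p : ℕ} (hp : p.Prime) (hG : Cfsg.IsPSolvable p G) (N : Subgroup G) [N.Normal] :
    Cfsg.IsPSolvable p (G ⧸ N) :=
  of_surjective hp (QuotientGroup.mk' N) (QuotientGroup.mk'_surjective N) hG

theorem relIndex_dvd_of_le_right (N D M : Subgroup G) [N.Normal] (h : D ≤ M) :
    N.relIndex D ∣ N.relIndex M := by
  rw [← Subgroup.relIndex_sup_right D N, ← Subgroup.relIndex_sup_right M N,
    ← Subgroup.relIndex_mul_relIndex N (D ⊔ N) (M ⊔ N) le_sup_right (sup_le_sup_right h N)]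
  exact Dvd.intro _ rfl

/-- a central normal Sylow `p`-subgroup of a group with trivial `p'`-core is everything -/
theorem eq_top_of_central {D : Type*} [Group D] [Finite D] {p : ℕ} [hp : Fact p.Prime]
    (E : Subgroup D) (hEc : E ≤ Subgroup.center D) (hEp : IsPGroup p E)
    (hidx : E.index.Coprime p) (hO : Cfsg.pPrimeCore p D = ⊥) : E = ⊤ := by
  have hEn : E.Normal := by
    constructor
    intro x hx d
    have := Subgroup.mem_center_iff.1 (hEc hx) d
    rw [this, mul_inv_cancel_right]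
    exact hx
  obtain ⟨k, hk⟩ := IsPGroup.iff_card.1 hEp
  obtain ⟨L, hL⟩ := Subgroup.exists_right_complement'_of_coprime (N := E)
    (by rw [hk]; exact (Nat.Coprime.pow_right k hidx).symm)
  have hLn : L.Normal := by
    constructor
    intro x hx d
    have hd : d ∈ E ⊔ L := by rw [hL.sup_eq_top]; trivial
    obtain ⟨e, he, l, hl, rfl⟩ := Subgroup.mem_sup_of_normal_left.1 hd
    have hec := Subgroup.mem_center_iff.1 (hEc he)
    have : e * l * x * (e * l)⁻¹ = l * x * l⁻¹ := by
      rw [mul_inv_rev, mul_assoc e l x, ← hec (l * x), mul_assoc (l * x) e, ← mul_assoc e,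
        ← hec l⁻¹, mul_assoc l⁻¹, mul_inv_cancel, mul_one]
    rw [this]
    exact L.mul_mem (L.mul_mem hl hx) (L.inv_mem hl)
  have hLc : Nat.card L = E.index := by
    have h1 := hL.card_mul_card
    have h2 := E.card_mul_index
    exact Nat.eq_of_mul_eq_mul_left Nat.card_pos (h1.trans h2.symm)
  have hLb : L = ⊥ := by
    rw [eq_bot_iff, ← hO]
    exact Cfsg.Agent.Lib.Helper1.le_pPrimeCore hLn (by rw [hLc]; exact hidx)
  rw [hLb] at hL
  exact Subgroup.isComplement'_bot_right.1 hL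

/-- Hall–Higman Lemma 1.2.3 -/
theorem hall_higman [Finite G] {p : ℕ} [hp : Fact p.Prime] (hG : Cfsg.IsPSolvable p G)
    (hO : Cfsg.pPrimeCore p G = ⊥) :
    Subgroup.centralizer (Cfsg.pCore p G : Set G) ≤ Cfsg.pCore p G := by
  have hVn : (Cfsg.pCore p G).Normal := Cfsg.Agent.Lib.Helper1.pCore_normal p
  set V := Cfsg.pCore p G with hV
  set C := Subgroup.centralizer (V : Set G) with hC
  have hVp : IsPGroup p V := Cfsg.Agent.Lib.Helper1.pCore_isPGroup p
  have := ascent hG (fun M => C ⊓ M ≤ V) (by simp) ?_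
  · simpa using this
  intro N M hN hM hNM hfac hE
  have := hN
  have := hM
  have hDn : (C ⊓ M).Normal := inferInstance
  have hrel : (C ⊓ N).relIndex (C ⊓ M) = N.relIndex (C ⊓ M) := by
    rw [← Subgroup.inf_relIndex_right (C ⊓ N), ← Subgroup.inf_relIndex_right N]
    congr 1
    apply le_antisymm
    · exact le_inf (inf_le_left.trans inf_le_right) inf_le_right
    · exact le_inf (le_inf (inf_le_right.trans inf_le_left) inf_le_left) inf_le_right
  have hdvd : (C ⊓ N).relIndex (C ⊓ M) ∣ N.relIndex M := by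
    rw [hrel]; exact relIndex_dvd_of_le_right N _ M inf_le_right
  have hEp : IsPGroup p (C ⊓ N : Subgroup G) := hVp.to_le hE
  have hle : C ⊓ N ≤ C ⊓ M := inf_le_inf_left C hNM
  rcases hfac with ⟨m, hm⟩ | hcop
  · -- `p`-factor
    rw [hm] at hdvd
    obtain ⟨k, _, hk⟩ := (Nat.dvd_prime_pow hp.out).1 hdvd
    obtain ⟨j, hj⟩ := IsPGroup.iff_card.1 hEp
    apply Cfsg.Agent.Lib.Helper1.le_pCore hDn
    apply IsPGroup.of_card (n := j + k)
    rw [← Cfsg.Agent.Lib.Helper1.card_mul_relIndex_of_le hle, hj, hk, pow_add]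
  · -- `p'`-factor
    have hcop' : ((C ⊓ N).relIndex (C ⊓ M)).Coprime p := Nat.Coprime.coprime_dvd_left hdvd hcop
    have hOD : Cfsg.pPrimeCore p ↥(C ⊓ M) = ⊥ := by
      have := Cfsg.Agent.Lib.Helper1.pPrimeCore_characteristic (G := ↥(C ⊓ M)) p
      have h1 := Cfsg.Agent.Lib.Helper1.map_characteristic_normal (N := C ⊓ M)
        (Cfsg.pPrimeCore p ↥(C ⊓ M))
      have h2 : (Cfsg.pPrimeCore p ↥(C ⊓ M)).map (C ⊓ M).subtype ≤ Cfsg.pPrimeCore p G := by
        apply Cfsg.Agent.Lib.Helper1.le_pPrimeCore h1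
        rw [Subgroup.card_map_of_injective (Subgroup.subtype_injective _)]
        exact Cfsg.Agent.Lib.Helper1.pPrimeCore_coprime p
      rw [hO, le_bot_iff, Subgroup.map_eq_bot_iff_of_injective _ (Subgroup.subtype_injective _)] at h2
      exact h2
    have htop := eq_top_of_central (p := p) ((C ⊓ N).subgroupOf (C ⊓ M)) ?_ ?_ hcop' hOD
    · rw [Subgroup.subgroupOf_eq_top] at htop
      exact htop.trans hE
    · intro x hx
      rw [Subgroup.mem_center_iff]
      intro y
      have hxV : (x : G) ∈ V := hE (Subgroup.mem_subgroupOf.1 hx)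
      have hyC : (y : G) ∈ C := y.2.1
      have := Subgroup.mem_centralizer_iff.1 hyC x hxV
      exact Subtype.ext this.symm
    · exact hEp.comap_subtype

theorem hall_higman_rel [Finite G] {p : ℕ} [hp : Fact p.Prime] (hG : Cfsg.IsPSolvable p G) (g : G)
    (hg : ∀ x ∈ Cfsg.pPrimePCore p G, g * x * g⁻¹ * x⁻¹ ∈ Cfsg.pPrimeCore p G) :
    g ∈ Cfsg.pPrimePCore p G := by
  have : (Cfsg.pPrimeCore p G).Normal := Cfsg.Agent.Lib.Helper1.pPrimeCore_normal p
  have h1 := hall_higman (quotient hp.out hG (Cfsg.pPrimeCore p G))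
    (Cfsg.Agent.Lib.Helper1.pPrimeCore_quotient_eq_bot p _ rfl)
  show QuotientGroup.mk' _ g ∈ Cfsg.pCore p (G ⧸ Cfsg.pPrimeCore p G)
  apply h1
  rw [Subgroup.mem_centralizer_iff]
  intro y hy
  obtain ⟨x, rfl⟩ := QuotientGroup.mk'_surjective _ y
  have hx : x ∈ Cfsg.pPrimePCore p G := hy
  have := (QuotientGroup.eq_one_iff _).2 (hg x hx)
  have h2 : QuotientGroup.mk' (Cfsg.pPrimeCore p G) g * QuotientGroup.mk' _ x *
      (QuotientGroup.mk' _ g)⁻¹ * (QuotientGroup.mk' _ x)⁻¹ = 1 := by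
    simpa using this
  have h3 := mul_inv_eq_one.1 h2
  rw [mul_inv_eq_iff_eq_mul] at h3
  exact h3.symm

/-- if a Sylow `p`-subgroup centralises `Q`, every `p`-subgroup normalising `Q` centralises it -/
theorem pgroup_le_centralizer [Finite G] {p : ℕ} [hp : Fact p.Prime] (P : Sylow p G)
    (Q R : Subgroup G) (hR : IsPGroup p R) (hRQ : R ≤ Subgroup.normalizer (Q : Set G))
    (hPQ : (P : Subgroup G) ≤ Subgroup.centralizer (Q : Set G)) :
    R ≤ Subgroup.centralizer (Q : Set G) := by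
  set Nor := Subgroup.normalizer (Q : Set G) with hNor
  set Cen := Subgroup.centralizer (Q : Set G) with hCen
  have hCN : Cen ≤ Nor := Subgroup.centralizer_le_normalizer _
  have hn : (Cen.subgroupOf Nor).Normal := Subgroup.normal_subgroupOf_centralizer_normalizer _
  have hcop : (Cen.relIndex Nor).Coprime p := by
    have h1 : Cen.relIndex Nor ∣ (P : Subgroup G).index :=
      (Subgroup.relIndex_dvd_of_le_left Nor hPQ).trans
        (Subgroup.relIndex_dvd_index_of_le (hPQ.trans hCN))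
    exact Nat.Coprime.coprime_dvd_left h1
      ((Nat.Prime.coprime_iff_not_dvd hp.out).2 P.not_dvd_index).symm
  intro x hx
  have h1 : (⟨x, hRQ hx⟩ : Nor) ^ (Cen.subgroupOf Nor).index ∈ Cen.subgroupOf Nor :=
    Subgroup.pow_index_mem _ _
  have h2 : x ^ (Cen.relIndex Nor) ∈ Cen := h1
  obtain ⟨k, hk⟩ := (IsPGroup.iff_orderOf.1 hR) ⟨x, hx⟩
  rw [Subgroup.orderOf_mk] at hk
  have h3 : (Cen.relIndex Nor).Coprime (orderOf x) := by
    rw [hk]; exact Nat.Coprime.pow_right k hcop
  obtain ⟨m, hm⟩ := exists_pow_eq_self_of_coprime h3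
  rw [← hm]
  exact pow_mem h2 m

open scoped commutatorElement in
/-- coprime action: `[Q, R] = [Q, R, R]` -/
theorem commutator_le_commutator_commutator [Finite G] (Q R : Subgroup G)
    (hRQ : R ≤ Subgroup.normalizer (Q : Set G)) (hcop : (Nat.card R).Coprime (Nat.card Q))
    (hsolv : Group.IsSolvable R ∨ Group.IsSolvable Q) : ⁅Q, R⁆ ≤ ⁅⁅Q, R⁆, R⁆ := by
  rw [Subgroup.commutator_le]
  intro q hq r hr
  obtain ⟨y, hy, c, hc, rfl⟩ :=
    Cfsg.Agent.Lib.Helper1.exists_commutator_mul_fixed R Q hRQ hcop hsolv q hq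
  have h1 := Subgroup.mem_centralizer_iff.1 hc.2 r hr
  have e : ⁅y * c, r⁆ = ⁅y, r⁆ := by
    rw [commutatorElement_def, commutatorElement_def, mul_inv_rev, mul_assoc y c r, ← h1]
    group
  rw [e]
  exact Subgroup.commutator_mem_commutator hy hr

/-- a `p'`-subgroup of `M` lies in `N` when `M / N` is a `p`-group -/
theorem le_of_coprime_of_pow {p : ℕ} {N M D : Subgroup G} [N.Normal] (hD : D ≤ M)
    (hDc : (Nat.card D).Coprime p) (h : ∃ m : ℕ, N.relIndex M = p ^ m) : D ≤ N := by
  obtain ⟨m, hm⟩ := h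
  have h1 := relIndex_dvd_of_le_right N D M hD
  rw [hm] at h1
  have h2 : N.relIndex D ∣ Nat.card D := Subgroup.relIndex_dvd_card N D
  have h3 : (Nat.card D).Coprime (p ^ m) := Nat.Coprime.pow_right m hDc
  exact Subgroup.relIndex_eq_one.1 (Nat.Coprime.eq_one_of_dvd
    (Nat.Coprime.coprime_dvd_left h2 h3) h1)

/-- a `p`-subgroup of `M` lies in `N` when `M / N` is a `p'`-group -/
theorem le_of_pgroup_of_coprime [Finite G] {p : ℕ} [hp : Fact p.Prime] {N M D : Subgroup G}
    [N.Normal] (hD : D ≤ M)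
    (hDc : IsPGroup p D) (h : (N.relIndex M).Coprime p) : D ≤ N := by
  obtain ⟨m, hm⟩ := IsPGroup.iff_card.1 hDc
  have h1 := relIndex_dvd_of_le_right N D M hD
  have h2 : N.relIndex D ∣ Nat.card D := Subgroup.relIndex_dvd_card N D
  rw [hm] at h2
  have h3 : (N.relIndex M).Coprime (p ^ m) := Nat.Coprime.pow_right m h
  exact Subgroup.relIndex_eq_one.1 (Nat.Coprime.eq_one_of_dvd
    (Nat.Coprime.coprime_dvd_left h1 h3) h2)

/-- a `p'`-element of `M` lies in `N` when `N` is normal in `M` of `p`-power index -/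
theorem mem_of_coprime_order {p : ℕ} {N M : Subgroup G} (hNle : N ≤ M)
    (hNM : M ≤ Subgroup.normalizer (N : Set G)) (h : ∃ m : ℕ, N.relIndex M = p ^ m) {x : G}
    (hx : x ∈ M) (hxo : (orderOf x).Coprime p) : x ∈ N := by
  obtain ⟨m, hm⟩ := h
  have hn : (N.subgroupOf M).Normal := (Subgroup.normal_subgroupOf_iff_le_normalizer hNle).2 hNM
  have h1 : (⟨x, hx⟩ : M) ^ (N.subgroupOf M).index ∈ N.subgroupOf M := Subgroup.pow_index_mem _ _
  have h2 : x ^ (N.relIndex M) ∈ N := h1
  have h3 : (N.relIndex M).Coprime (orderOf x) := by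
    rw [hm]; exact (Nat.Coprime.pow_right m hxo).symm
  obtain ⟨k, hk⟩ := exists_pow_eq_self_of_coprime h3
  rw [← hk]
  exact pow_mem h2 k

theorem of_chain3 {p : ℕ} (L M : Subgroup G) (hL : L.Normal) (hM : M.Normal) (hLM : L ≤ M)
    (h1 : Fac p ⊥ L) (h2 : Fac p L M) (h3 : Fac p M ⊤) : Cfsg.IsPSolvable p G := by
  refine ⟨3, ![⊥, L, M, ⊤], rfl, rfl, ?_, ?_, ?_⟩
  · rw [Fin.monotone_iff_le_succ]
    intro i
    fin_cases i
    · exact bot_le
    · exact hLM
    · exact le_top
  · intro i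
    fin_cases i
    · exact Subgroup.normal_bot
    · exact hL
    · exact hM
    · exact Subgroup.normal_top
  · intro i
    fin_cases i
    · exact h1
    · exact h2
    · exact h3

/-- extension by a normal `p`- or `p'`-subgroup at the bottom -/
theorem of_quotient {p : ℕ} (N : Subgroup G) [hN : N.Normal] (h0 : Fac p ⊥ N)
    (hG : Cfsg.IsPSolvable p (G ⧸ N)) : Cfsg.IsPSolvable p G := by
  obtain ⟨n, H, hH0, hHn, hmono, hnorm, hfac⟩ := hG
  set f := QuotientGroup.mk' N with hf
  have hfs : Function.Surjective f := QuotientGroup.mk'_surjective N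
  refine ⟨n + 1, Fin.cons ⊥ (fun i => (H i).comap f), rfl, ?_, ?_, ?_, ?_⟩
  · rw [← Fin.succ_last, Fin.cons_succ, hHn, Subgroup.comap_top]
  · rw [Fin.monotone_iff_le_succ]
    intro i
    induction i using Fin.cases with
    | zero => exact bot_le
    | succ j =>
      rw [← Fin.succ_castSucc, Fin.cons_succ, Fin.cons_succ]
      exact Subgroup.comap_mono (hmono (Fin.castSucc_le_succ j))
  · intro i
    induction i using Fin.cases with
    | zero => exact Subgroup.normal_bot
    | succ j =>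
      rw [Fin.cons_succ]
      exact (hnorm j).comap f
  · intro i
    induction i using Fin.cases with
    | zero =>
      have e : (H 0).comap f = N := by
        rw [hH0]
        exact QuotientGroup.ker_mk' N
      rw [Fin.cons_succ, e]
      exact h0
    | succ j =>
      rw [← Fin.succ_castSucc, Fin.cons_succ, Fin.cons_succ, Subgroup.relIndex_comap,
        Subgroup.map_comap_eq_self_of_surjective hfs]
      exact hfac j

theorem exists_normal_ne_bot {p : ℕ} [Nontrivial G] (hG : Cfsg.IsPSolvable p G) :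
    ∃ N : Subgroup G, N.Normal ∧ N ≠ ⊥ ∧ Fac p ⊥ N := by
  have := ascent hG (fun M => M = ⊥ ∨ ∃ N : Subgroup G, N.Normal ∧ N ≠ ⊥ ∧ Fac p ⊥ N)
    (Or.inl rfl) ?_
  · rcases this with h | h
    · exact absurd h top_ne_bot
    · exact h
  intro N M hN hM hNM hfac hPr
  rcases hPr with rfl | h
  · by_cases hMb : M = ⊥
    · exact Or.inl hMb
    · exact Or.inr ⟨M, hM, hMb, hfac⟩
  · exact Or.inr h

end Cfsg.Agent.Lib.Helper9.PSolv
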