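import Mathlib
import Cfsg.Agent.Lib.Helper6.CharP
import Cfsg.Agent.Lib.Helper6.Ores
import Cfsg.Agent.Lib.Helper1.Subn1

set_option autoImplicit false
set_option linter.unusedSectionVars false

/-! More on groups of characteristic `p` (on top of helper6's `CharP`). -/

namespace Cfsg.Agent.Lib.Helper9.ChP2

open Cfsg.Agent.Lib.Helper6.Basic Cfsg.Agent.Lib.Helper6.Subn Cfsg.Agent.Lib.Helper6.Quasi Cfsg.Agent.Lib.Helper6.Comp Cfsg.Agent.Lib.Helper6.Rad Cfsg.Agent.Lib.Helper6.Nil Cfsg.Agent.Lib.Helper6.FStar Cfsg.Agent.Lib.Helper6.FStar2 Cfsg.Agent.Lib.Helper6.PAct Cfsg.Agent.Lib.Helper6.CharP Cfsg.Agent.Lib.Helper6.Ores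

variable {G : Type*} [Group G] [Finite G]

/-- if the `p`-group `X` and its centralizer lie in a subgroup `C` of characteristic `p`,
then `N(X)` has characteristic `p` (same proof as helper6's `ChP.of_central`) -/
theorem chP_Nz_of_Cz_le {p : ℕ} [Fact p.Prime] {X C : Subgroup G} (hX : IsPGroup p ↥X)
    (hXC : X ≤ C) (hCX : Cz X ≤ C) (hC : ChP p C) : ChP p (Nz X) := by
  have h1 : ChP p (C ⊓ Nz X) := hC.normalizer hX hXC
  have hXQ : X ≤ Op p (Nz X) := le_Rd Subgroup.le_normalizer le_rfl hX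
  have hYn : Nz X ≤ Nz (Nz X ⊓ Cz (Op p (Nz X))) :=
    le_Nz_inf Subgroup.le_normalizer ((le_Nz_Op p _).trans (Nz_le_Nz_Cz _))
  have hCzC : Cz (Op p (Nz X)) ≤ C := (Cz_anti hXQ).trans hCX
  unfold ChP
  apply le_Rd inf_le_left hYn
  apply isPGroup_of_p'_trivial
  intro x hx hxc
  have hxN1 : x ∈ C ⊓ Nz X := ⟨hCzC hx.2, hx.1⟩
  have hYN1 : Nz X ⊓ Cz (Op p (Nz X)) ≤ C ⊓ Nz X := le_inf (inf_le_right.trans hCzC) inf_le_left
  have hQ1Y : Op p (C ⊓ Nz X) ⊓ (Nz X ⊓ Cz (Op p (Nz X))) ≤ Op p (Nz X) := by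
    apply le_Op_of_sn _ ((Op_isPGroup p _).to_le inf_le_left)
    have hs1 : SN (Op p (C ⊓ Nz X) ⊓ (Nz X ⊓ Cz (Op p (Nz X)))) (Nz X ⊓ Cz (Op p (Nz X))) :=
      SN.of_normal inf_le_right (le_Nz_inf (hYN1.trans (le_Nz_Op p _)) Subgroup.le_normalizer)
    exact hs1.trans (SN.of_normal inf_le_left hYn)
  have hxC1 : x ∈ Cz (Op p (C ⊓ Nz X)) := by
    rw [Subgroup.mem_centralizer_iff]
    intro s hs
    have hsN1 : s ∈ C ⊓ Nz X := Op_le p _ hs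
    have hc1 : s * x * s⁻¹ * x⁻¹ ∈ Op p (C ⊓ Nz X) := by
      have : s * x * s⁻¹ * x⁻¹ = s * (x * s⁻¹ * x⁻¹) := by simp only [mul_assoc]
      rw [this]
      exact Subgroup.mul_mem _ hs
        ((Subgroup.mem_normalizer_iff.mp (le_Nz_Op p _ hxN1) _).mp (Subgroup.inv_mem _ hs))
    have hc2 : s * x * s⁻¹ * x⁻¹ ∈ Nz X ⊓ Cz (Op p (Nz X)) :=
      Subgroup.mul_mem _ ((Subgroup.mem_normalizer_iff.mp (hYn hsN1.2) _).mp hx)
        (Subgroup.inv_mem _ hx)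
    have hcx : Commute (s * x * s⁻¹ * x⁻¹) x :=
      Subgroup.mem_centralizer_iff.mp hx.2 _ (hQ1Y ⟨hc1, hc2⟩)
    obtain ⟨k, hk⟩ := Op_isPGroup p (C ⊓ Nz X) ⟨_, hc1⟩
    have hk' : (s * x * s⁻¹ * x⁻¹) ^ (p ^ k) = 1 := congrArg Subtype.val hk
    have hc : s * x * s⁻¹ * x⁻¹ = 1 :=
      eq_one_of_conj_eq_mul (s := s) (x := x) (by simp only [mul_assoc, inv_mul_cancel, mul_one])
        hcx hk' hxc
    calc s * x = (s * x * s⁻¹ * x⁻¹) * x * s := by simp only [mul_assoc, inv_mul_cancel, mul_one]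
      _ = x * s := by rw [hc, one_mul]
  exact eq_one_of_pGroup_of_coprime (Op_isPGroup p _) (h1 ⟨hxN1, hxC1⟩) hxc

/-- overgroups of `O_p(G)` have characteristic `p` -/
theorem chP_of_Op_le {p : ℕ} [Fact p.Prime] (hG : ChP p (⊤ : Subgroup G)) {M : Subgroup G}
    (hM : Op p (⊤ : Subgroup G) ≤ M) : ChP p M := by
  have h1 : Op p (⊤ : Subgroup G) ≤ Op p M :=
    le_Rd hM (le_top.trans (le_Nz_Op p ⊤)) (Op_isPGroup p ⊤)
  unfold ChP at hG ⊢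
  intro x hx
  exact h1 (hG ⟨Subgroup.mem_top x, Cz_anti h1 hx.2⟩)

/-- subgroups normalized by `O_p(G)` have characteristic `p` -/
theorem chP_of_Op_le_Nz {p : ℕ} [Fact p.Prime] (hG : ChP p (⊤ : Subgroup G)) {L : Subgroup G}
    (hL : Op p (⊤ : Subgroup G) ≤ Nz L) : ChP p L :=
  (chP_of_Op_le hG (le_sup_right : Op p (⊤ : Subgroup G) ≤ L ⊔ Op p (⊤ : Subgroup G))).sn
    (SN.of_normal le_sup_left (sup_le Subgroup.le_normalizer hL))

theorem Op_top_le_sylow {p : ℕ} [Fact p.Prime] (T : Sylow p G) :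
    Op p (⊤ : Subgroup G) ≤ (T : Subgroup G) := by
  have h1 : IsPGroup p ↥((T : Subgroup G) ⊔ Op p (⊤ : Subgroup G) : Subgroup G) :=
    T.isPGroup'.to_sup_of_normal_right' (Op_isPGroup p ⊤) (le_top.trans (le_Nz_Op p ⊤))
  have h2 := T.is_maximal' h1 le_sup_left
  exact h2 ▸ le_sup_right

/-- `C_G(Q) ≤ Q` for `Q ⊴ T` with `C_T(Q) ≤ Q`, in a group of characteristic `p` -/
theorem Cz_le_of_normal_in_sylow {p : ℕ} [Fact p.Prime] (hG : ChP p (⊤ : Subgroup G))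
    (T : Sylow p G) {Q : Subgroup G} (hQT : Q ≤ (T : Subgroup G)) (hQn : (T : Subgroup G) ≤ Nz Q)
    (hC : (T : Subgroup G) ⊓ Cz Q ≤ Q) : Cz Q ≤ Q := by
  have hRT := Op_top_le_sylow (p := p) T
  have hD : IsPGroup p ↥(Cz Q) := by
    apply isPGroup_of_p'_trivial
    intro x hx hxc
    have h1 : x ∈ Cz (Op p (⊤ : Subgroup G)) := by
      apply thompson_AxB (Op_isPGroup p ⊤) (T.isPGroup'.to_le hQT) (le_top.trans (le_Nz_Op p ⊤))
        (le_Nz_Op p ⊤ (Subgroup.mem_top x)) hx hxc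
      exact Cz_anti ((inf_le_inf_right _ hRT).trans hC) hx
    exact eq_one_of_pGroup_of_coprime (Op_isPGroup p ⊤) (hG ⟨Subgroup.mem_top x, h1⟩) hxc
  have h1 : IsPGroup p ↥((T : Subgroup G) ⊔ Cz Q : Subgroup G) :=
    T.isPGroup'.to_sup_of_normal_right' hD (hQn.trans (Nz_le_Nz_Cz _))
  have h2 := T.is_maximal' h1 le_sup_left
  have h3 : Cz Q ≤ (T : Subgroup G) := h2 ▸ le_sup_right
  exact (le_inf h3 le_rfl).trans hC

omit [Finite G] in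
/-- the elements normalizing `U` and `W` and acting trivially on `U` modulo `W` -/
def stab (U W : Subgroup G) : Subgroup G where
  carrier := {g | g ∈ Nz U ⊓ Nz W ∧ ∀ r ∈ U, g * r * g⁻¹ * r⁻¹ ∈ W}
  one_mem' := ⟨Subgroup.one_mem _, fun r _ => by simp⟩
  mul_mem' := by
    rintro g h ⟨hg1, hg2⟩ ⟨hh1, hh2⟩
    refine ⟨Subgroup.mul_mem _ hg1 hh1, fun r hr => ?_⟩
    have e : g * h * r * (g * h)⁻¹ * r⁻¹ = (g * (h * r * h⁻¹ * r⁻¹) * g⁻¹) * (g * r * g⁻¹ * r⁻¹) := by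
      group
    rw [e]
    exact W.mul_mem ((Subgroup.mem_normalizer_iff.mp hg1.2 _).mp (hh2 r hr)) (hg2 r hr)
  inv_mem' := by
    rintro g ⟨hg1, hg2⟩
    refine ⟨Subgroup.inv_mem _ hg1, fun r hr => ?_⟩
    have e : g⁻¹ * r * g⁻¹⁻¹ * r⁻¹ = g⁻¹ * (g * r * g⁻¹ * r⁻¹)⁻¹ * g⁻¹⁻¹ := by group
    rw [e]
    exact (Subgroup.mem_normalizer_iff.mp (Subgroup.inv_mem _ hg1.2) _).mp (W.inv_mem (hg2 r hr))

omit [Finite G] in
theorem le_Nz_stab (U W : Subgroup G) : Nz U ⊓ Nz W ≤ Nz (stab U W) := by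
  have key : ∀ n ∈ Nz U ⊓ Nz W, ∀ g ∈ stab U W, n * g * n⁻¹ ∈ stab U W := by
    rintro n hn g ⟨hg1, hg2⟩
    refine ⟨Subgroup.mul_mem _ (Subgroup.mul_mem _ hn hg1) (Subgroup.inv_mem _ hn), fun r hr => ?_⟩
    have hr' : n⁻¹ * r * n⁻¹⁻¹ ∈ U :=
      (Subgroup.mem_normalizer_iff.mp (Subgroup.inv_mem _ hn.1) _).mp hr
    have e : n * g * n⁻¹ * r * (n * g * n⁻¹)⁻¹ * r⁻¹ =
        n * (g * (n⁻¹ * r * n⁻¹⁻¹) * g⁻¹ * (n⁻¹ * r * n⁻¹⁻¹)⁻¹) * n⁻¹ := by group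
    rw [e]
    exact (Subgroup.mem_normalizer_iff.mp hn.2 _).mp (hg2 _ hr')
  intro n hn
  rw [Subgroup.mem_normalizer_iff]
  intro g
  refine ⟨key n hn g, fun h => ?_⟩
  have := key n⁻¹ (Subgroup.inv_mem _ hn) _ h
  have e : n⁻¹ * (n * g * n⁻¹) * n⁻¹⁻¹ = g := by group
  rwa [e] at this

/-- every overgroup of `Q` has characteristic `p` -/
theorem chP_of_le_of_normal_in_sylow {p : ℕ} [Fact p.Prime] (hG : ChP p (⊤ : Subgroup G))
    (T : Sylow p G) {Q : Subgroup G} (hQT : Q ≤ (T : Subgroup G)) (hQn : (T : Subgroup G) ≤ Nz Q)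
    (hC : (T : Subgroup G) ⊓ Cz Q ≤ Q) {L : Subgroup G} (hQL : Q ≤ L) : ChP p L := by
  have hCQ := Cz_le_of_normal_in_sylow hG T hQT hQn hC
  have hRT := Op_top_le_sylow (p := p) T
  have hQp : IsPGroup p ↥Q := T.isPGroup'.to_le hQT
  set R := Op p (⊤ : Subgroup G) with hR
  have hRp : IsPGroup p ↥R := Op_isPGroup p ⊤
  have hRn : ∀ K : Subgroup G, K ≤ Nz R := fun K => le_top.trans (le_Nz_Op p ⊤)
  set Y := L ⊓ Cz (Op p L) with hY
  have hYn : L ≤ Nz Y := le_Nz_inf Subgroup.le_normalizer ((le_Nz_Op p L).trans (Nz_le_Nz_Cz _))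
  have hRL : R ⊓ L ≤ Op p L :=
    le_Rd inf_le_right (le_Nz_inf (hRn L) Subgroup.le_normalizer) (hRp.to_le inf_le_left)
  set R₀ := R ⊓ Q with hR₀
  have hYR₀ : Y ≤ Cz R₀ :=
    inf_le_right.trans (Cz_anti ((inf_le_inf_left R hQL).trans hRL))
  set R₁ := R ⊓ Cz R₀ with hR₁
  set Z₀ := R₀ ⊓ Cz R₀ with hZ₀
  have hYR₁ : Y ≤ Nz R₁ := le_Nz_inf (hRn Y) ((hYR₀.trans (Cz_le_Nz _)).trans (Nz_le_Nz_Cz _))
  have hYZ₀ : Y ≤ Nz Z₀ :=
    le_Nz_inf (hYR₀.trans (Cz_le_Nz _)) ((hYR₀.trans (Cz_le_Nz _)).trans (Nz_le_Nz_Cz _))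
  have hQR₀ : Q ≤ Nz R₀ := le_Nz_inf (hRn Q) Subgroup.le_normalizer
  have hQR₁ : Q ≤ Nz R₁ := le_Nz_inf (hRn Q) (hQR₀.trans (Nz_le_Nz_Cz _))
  have hQZ₀ : Q ≤ Nz Z₀ := le_Nz_inf hQR₀ (hQR₀.trans (Nz_le_Nz_Cz _))
  have hQstab : Q ≤ stab R₁ Z₀ := by
    intro q hq
    refine ⟨⟨hQR₁ hq, hQZ₀ hq⟩, fun r hr => ?_⟩
    have h1 : q * r * q⁻¹ ∈ R₁ := (Subgroup.mem_normalizer_iff.mp (hQR₁ hq) _).mp hr
    refine ⟨⟨R.mul_mem h1.1 (R.inv_mem hr.1), ?_⟩, Subgroup.mul_mem _ h1.2 (Subgroup.inv_mem _ hr.2)⟩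
    have e : q * r * q⁻¹ * r⁻¹ = q * (r * q⁻¹ * r⁻¹) := by group
    rw [e]
    exact Q.mul_mem hq ((Subgroup.mem_normalizer_iff.mp (hQn (hRT hr.1)) _).mp (Q.inv_mem hq))
  set A := Y ⊓ stab R₁ Z₀ with hA
  have hAn : Y ≤ Nz A :=
    le_Nz_inf Subgroup.le_normalizer ((le_inf hYR₁ hYZ₀).trans (le_Nz_stab R₁ Z₀))
  have hAp : IsPGroup p ↥A := by
    apply isPGroup_of_p'_trivial
    intro v hv hvc
    have hvR₀ : v ∈ Cz R₀ := hYR₀ hv.1
    have h1 : v ∈ Cz R₁ := by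
      rw [Subgroup.mem_centralizer_iff]
      intro r hr
      have hc1 : r * v * r⁻¹ * v⁻¹ ∈ Z₀ := by
        have e : r * v * r⁻¹ * v⁻¹ = (v * r * v⁻¹ * r⁻¹)⁻¹ := by group
        rw [e]
        exact Z₀.inv_mem (hv.2.2 r hr)
      have hcx : Commute (r * v * r⁻¹ * v⁻¹) v :=
        Subgroup.mem_centralizer_iff.mp hvR₀ _ hc1.1
      obtain ⟨k, hk⟩ := hRp ⟨_, hc1.1.1⟩
      have hk' : (r * v * r⁻¹ * v⁻¹) ^ (p ^ k) = 1 := congrArg Subtype.val hk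
      have hc : r * v * r⁻¹ * v⁻¹ = 1 :=
        eq_one_of_conj_eq_mul (s := r) (x := v) (by simp only [mul_assoc, inv_mul_cancel, mul_one])
          hcx hk' hvc
      calc r * v = (r * v * r⁻¹ * v⁻¹) * v * r := by simp only [mul_assoc, inv_mul_cancel, mul_one]
        _ = v * r := by rw [hc, one_mul]
    have h2 : v ∈ Cz R :=
      thompson_AxB hRp (hRp.to_le inf_le_left) (hRn R₀) (hRn ⊤ (Subgroup.mem_top v)) hvR₀ hvc h1
    exact eq_one_of_pGroup_of_coprime hRp (hG ⟨Subgroup.mem_top v, h2⟩) hvc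
  have hAP : A ≤ Op p L :=
    le_Op_of_sn ((SN.of_normal inf_le_left hAn).trans (SN.of_normal inf_le_left hYn)) hAp
  have hYp : IsPGroup p ↥Y := by
    apply isPGroup_of_p'_trivial
    intro x hx hxc
    have h1 : x ∈ Cz Q := by
      rw [Subgroup.mem_centralizer_iff]
      intro q hq
      have hc1 : q * x * q⁻¹ * x⁻¹ ∈ A := by
        refine ⟨Y.mul_mem ((Subgroup.mem_normalizer_iff.mp (hYn (hQL hq)) _).mp hx) (Y.inv_mem hx), ?_⟩
        have e : q * x * q⁻¹ * x⁻¹ = q * (x * q⁻¹ * x⁻¹) := by group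
        rw [e]
        exact Subgroup.mul_mem _ (hQstab hq) ((Subgroup.mem_normalizer_iff.mp
          (le_Nz_stab R₁ Z₀ ⟨hYR₁ hx, hYZ₀ hx⟩) _).mp (Subgroup.inv_mem _ (hQstab hq)))
      have hcx : Commute (q * x * q⁻¹ * x⁻¹) x :=
        Subgroup.mem_centralizer_iff.mp hx.2 _ (hAP hc1)
      obtain ⟨k, hk⟩ := hAp ⟨_, hc1⟩
      have hk' : (q * x * q⁻¹ * x⁻¹) ^ (p ^ k) = 1 := congrArg Subtype.val hk
      have hc : q * x * q⁻¹ * x⁻¹ = 1 :=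
        eq_one_of_conj_eq_mul (s := q) (x := x) (by simp only [mul_assoc, inv_mul_cancel, mul_one])
          hcx hk' hxc
      calc q * x = (q * x * q⁻¹ * x⁻¹) * x * q := by simp only [mul_assoc, inv_mul_cancel, mul_one]
        _ = x * q := by rw [hc, one_mul]
    exact eq_one_of_pGroup_of_coprime hQp (hCQ h1) hxc
  exact le_Rd inf_le_left hYn hYp

/-- `F*(N)` is a `p`-group iff `N` has characteristic `p` -/
theorem isPGroup_gfit_iff {p : ℕ} [Fact p.Prime] (N : Subgroup G) :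
    IsPGroup p ↥(Cfsg.generalizedFittingSubgroup ↥N) ↔ ChP p N := by
  constructor
  · intro h
    rw [chP_iff_Fs]
    have h1 : IsPGroup p ↥(Fs N) := by
      rw [← map_gfit]; exact h.map _
    exact le_antisymm (le_Rd (Fs_le N) (le_Nz_Fs N) h1) ((Op_le_F p N).trans le_sup_right)
  · intro h
    rw [(gfit_eq_pCore_iff N).mpr h]
    have h1 : IsPGroup p ↥((Cfsg.pCore p ↥N).map N.subtype) := by
      rw [map_pCore]; exact Op_isPGroup p N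
    exact h1.of_equiv ((Cfsg.pCore p ↥N).equivMapOfInjective _ N.subtype_injective).symm

/-- extending a group of characteristic `p` by a `p`-group -/
theorem chP_sup_pGroup {p : ℕ} [Fact p.Prime] {K U : Subgroup G} (hK : ChP p K)
    (hU : IsPGroup p ↥U) (hUK : U ≤ Nz K) : ChP p (K ⊔ U) := by
  have hYn : K ⊔ U ≤ Nz ((K ⊔ U) ⊓ Cz (Op p (K ⊔ U))) :=
    le_Nz_inf Subgroup.le_normalizer ((le_Nz_Op p _).trans (Nz_le_Nz_Cz _))
  have hsn : SN K (K ⊔ U) := SN.of_normal le_sup_left (sup_le Subgroup.le_normalizer hUK)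
  apply le_Rd inf_le_left hYn
  apply isPGroup_of_p'_trivial
  intro x hx hxc
  obtain ⟨k, hk⟩ := exists_pow_mem_of_sup hU hUK hx.1
  have hxK : x ∈ K := mem_of_pow_mem hxc hk
  exact eq_one_of_pGroup_of_coprime (Op_isPGroup p K) (hK ⟨hxK, Cz_anti (Op_sn hsn) hx.2⟩) hxc

theorem chP_Cz_step {p : ℕ} [Fact p.Prime] {V U : Subgroup G} (hV : ChP p (Cz V)) (hVU : V ≤ U)
    (hUV : U ≤ Nz V) (hU : IsPGroup p ↥U) : ChP p (Cz U) := by
  have h1 : ChP p (Cz V ⊔ U) := chP_sup_pGroup hV hU (hUV.trans (Nz_le_Nz_Cz V))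
  have h2 : ChP p ((Cz V ⊔ U) ⊓ Nz U) := h1.normalizer hU le_sup_right
  exact h2.sn (SN.of_normal (le_inf ((Cz_anti hVU).trans le_sup_left) (Cz_le_Nz U))
    (inf_le_right.trans (Nz_le_Nz_Cz U)))

theorem chP_Cz_of_SN {p : ℕ} [Fact p.Prime] {V U : Subgroup G} (h : SN V U) (hU : IsPGroup p ↥U)
    (hV : ChP p (Cz V)) : ChP p (Cz U) := by
  induction h with
  | refl K => exact hV
  | step h1 h2 h3 ih => exact ih hU (chP_Cz_step hV h1 h2 (hU.to_le h3.le))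

theorem chP_Cz_of_le {p : ℕ} [Fact p.Prime] {V U : Subgroup G} (h : V ≤ U) (hU : IsPGroup p ↥U)
    (hV : ChP p (Cz V)) : ChP p (Cz U) :=
  chP_Cz_of_SN (Cfsg.Agent.Lib.Helper1.SN_of_le_nilpotent hU.isNilpotent h) hU hV

end Cfsg.Agent.Lib.Helper9.ChP2
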