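import Mathlib
import Cfsg.Prelude.Def_Balance
import Cfsg.Agent.Lib.Helper3.CopGen

set_option autoImplicit false
open Pointwise
open scoped commutatorElement

namespace Cfsg.Agent.Lib.Helper9.Sig

open Cfsg.Agent.Lib.Helper1

universe u
variable {G : Type u} [Group G]

theorem inv_iff [Finite G] {A U : Subgroup G} :
    (∀ b ∈ A, ∀ u ∈ U, b * u * b⁻¹ ∈ U) ↔ A ≤ Subgroup.normalizer (U : Set G) := by
  constructor
  · intro h b hb
    exact Subgroup.mem_normalizer_fintype (h b hb)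
  · intro h b hb u hu
    exact (Subgroup.mem_normalizer_iff.mp (h hb) u).mp hu

theorem ea_pGroup {p : ℕ} [Fact p.Prime] {A : Subgroup G} (hA : Cfsg.IsElementaryAbelian p A) :
    IsPGroup p A := by
  intro a
  refine ⟨1, ?_⟩
  ext
  simpa using hA.2 a a.2

theorem cop_of [Finite G] {p : ℕ} [hp : Fact p.Prime] {A U : Subgroup G} (hA : IsPGroup p A)
    (hU : ¬ p ∣ Nat.card U) : (Nat.card A).Coprime (Nat.card U) := by
  obtain ⟨n, hn⟩ := IsPGroup.iff_card.mp hA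
  rw [hn]
  exact Nat.Coprime.pow_left _ ((Nat.Prime.coprime_iff_not_dvd hp.out).mpr hU)

theorem ea_solv {p : ℕ} {A : Subgroup G} (hA : Cfsg.IsElementaryAbelian p A) :
    Group.IsSolvable A := Group.isSolvable_of_comm hA.1.is_comm.comm

theorem ea_comm {p : ℕ} {A : Subgroup G} (hA : Cfsg.IsElementaryAbelian p A) {a b : G}
    (ha : a ∈ A) (hb : b ∈ A) : a * b = b * a :=
  congrArg (Subtype.val : A → G) (hA.1.is_comm.comm ⟨a, ha⟩ ⟨b, hb⟩)

theorem ea_le {p : ℕ} {A B : Subgroup G} (hA : Cfsg.IsElementaryAbelian p A) (hB : B ≤ A) :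
    Cfsg.IsElementaryAbelian p B :=
  ⟨⟨⟨fun x y => Subtype.ext (ea_comm hA (hB x.2) (hB y.2))⟩⟩, fun a ha => hA.2 a (hB ha)⟩

theorem cz_zpowers (a : G) :
    Subgroup.centralizer ((Subgroup.zpowers a : Subgroup G) : Set G) = Subgroup.centralizer {a} := by
  rw [Subgroup.zpowers_eq_closure, Subgroup.centralizer_closure]

theorem solvable_sup {X Y : Subgroup G} (hX : Group.IsSolvable X) (hY : Group.IsSolvable Y)
    (hn : Y ≤ Subgroup.normalizer (X : Set G)) : Group.IsSolvable (X ⊔ Y : Subgroup G) := by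
  have hXn : (X.subgroupOf (Y ⊔ X)).Normal := Subgroup.normal_subgroupOf_sup_of_le_normalizer hn
  rw [sup_comm]
  have hq : Group.IsSolvable ((Y ⊔ X : Subgroup G) ⧸ X.subgroupOf (Y ⊔ X)) := by
    apply Group.isSolvable_of_surjective
      (f := (QuotientGroup.mk' (X.subgroupOf (Y ⊔ X))).comp (Subgroup.inclusion (le_sup_left : Y ≤ Y ⊔ X)))
    intro z
    obtain ⟨⟨g, hg⟩, rfl⟩ := QuotientGroup.mk'_surjective _ z
    have hg' : g ∈ ((Y ⊔ X : Subgroup G) : Set G) := hg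
    rw [Subgroup.coe_mul_of_left_le_normalizer_right _ _ hn] at hg'
    obtain ⟨y, hy, x, hx, rfl⟩ := Set.mem_mul.mp hg'
    refine ⟨⟨y, hy⟩, ?_⟩
    rw [MonoidHom.comp_apply, QuotientGroup.mk'_apply, QuotientGroup.mk'_apply, QuotientGroup.eq]
    rw [Subgroup.mem_subgroupOf]
    simpa using hx
  apply Group.isSolvable_of_ker_le_range (Subgroup.inclusion (le_sup_right : X ≤ Y ⊔ X))
    (QuotientGroup.mk' (X.subgroupOf (Y ⊔ X)))
  rw [QuotientGroup.ker_mk']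
  intro z hz
  exact ⟨⟨z.1, hz⟩, rfl⟩

theorem not_dvd_sup [Finite G] {p : ℕ} [hp : Fact p.Prime] {X Y : Subgroup G}
    (hX : ¬ p ∣ Nat.card X) (hY : ¬ p ∣ Nat.card Y)
    (hn : Y ≤ Subgroup.normalizer (X : Set G)) : ¬ p ∣ Nat.card (X ⊔ Y : Subgroup G) := by
  intro h
  have h1 := card_sup_mul_card_inf' Y X hn
  rw [sup_comm] at h1
  have h2 : p ∣ Nat.card Y * Nat.card X := by rw [← h1]; exact Dvd.dvd.mul_right h _
  rcases (Nat.Prime.dvd_mul hp.out).mp h2 with h3 | h3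
  · exact hY h3
  · exact hX h3

/-- factorisation of fixed points in a product `X Y` under a coprime operator group -/
theorem fixed_of_mul [Finite G] {B X Y : Subgroup G}
    (hBX : B ≤ Subgroup.normalizer (X : Set G)) (hBY : B ≤ Subgroup.normalizer (Y : Set G))
    (hcop : (Nat.card B).Coprime (Nat.card X)) (hsolv : Group.IsSolvable B ∨ Group.IsSolvable X)
    {x y : G} (hx : x ∈ X) (hy : y ∈ Y) (hxy : x * y ∈ Subgroup.centralizer (B : Set G)) :
    ∃ x' ∈ X ⊓ Subgroup.centralizer (B : Set G), ∃ y' ∈ Y ⊓ Subgroup.centralizer (B : Set G),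
      x * y = x' * y' := by
  obtain ⟨d, hd, hdc⟩ := exists_fixed_in_coset B (X ⊓ Y) (le_normalizer_inf hBX hBY)
    (Nat.Coprime.coprime_dvd_right (Subgroup.card_dvd_of_le inf_le_left) hcop)
    (hsolv.imp id (isSolvable_of_le inf_le_left)) x (by
      intro a ha
      have h1 : a * (x * y) = x * y * a := Subgroup.mem_centralizer_iff.mp hxy a ha
      have h2 : x⁻¹ * (a * x * a⁻¹) = y * (a * y⁻¹ * a⁻¹) := by
        have : a * x = x * y * a * y⁻¹ := by rw [← h1]; group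
        rw [this]; group
      refine ⟨X.mul_mem (X.inv_mem hx) ((Subgroup.mem_normalizer_iff.mp (hBX ha) _).mp hx), ?_⟩
      rw [h2]
      exact Y.mul_mem hy ((Subgroup.mem_normalizer_iff.mp (hBY ha) _).mp (Y.inv_mem hy)))
  refine ⟨x * d, ⟨X.mul_mem hx hd.1, hdc⟩, d⁻¹ * y, ⟨Y.mul_mem (Y.inv_mem hd.2) hy, ?_⟩, by group⟩
  have : d⁻¹ * y = (x * d)⁻¹ * (x * y) := by group
  rw [this]
  exact Subgroup.mul_mem _ (Subgroup.inv_mem _ hdc) hxy

/-- internal form of membership in the family of a signalizer functor -/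
structure Fam (p : ℕ) (A : Subgroup G) (θ : G → Subgroup G) (U : Subgroup G) : Prop where
  solv : Group.IsSolvable U
  cop : ¬ p ∣ Nat.card U
  inv : A ≤ Subgroup.normalizer (U : Set G)
  cen : ∀ a ∈ A, a ≠ 1 → U ⊓ Subgroup.centralizer {a} ≤ θ a

theorem fam_iff [Finite G] {p : ℕ} {A : Subgroup G} {θ : G → Subgroup G} {U : Subgroup G} :
    U ∈ Cfsg.signalizerFamily p A θ ↔ Fam p A θ U := by
  constructor
  · rintro ⟨h1, h2, h3, h4⟩
    exact ⟨h1, h2, inv_iff.mp h3, h4⟩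
  · rintro ⟨h1, h2, h3, h4⟩
    exact ⟨h1, h2, inv_iff.mpr h3, h4⟩

/-- internal form of a solvable signalizer functor -/
structure SF (p : ℕ) (A : Subgroup G) (θ : G → Subgroup G) : Prop where
  le : ∀ a ∈ A, a ≠ 1 → θ a ≤ Subgroup.centralizer {a}
  cop : ∀ a ∈ A, a ≠ 1 → ¬ p ∣ Nat.card (θ a)
  inv : ∀ a ∈ A, a ≠ 1 → A ≤ Subgroup.normalizer (θ a : Set G)
  bal : ∀ a ∈ A, a ≠ 1 → ∀ b ∈ A, b ≠ 1 → θ a ⊓ Subgroup.centralizer {b} ≤ θ b
  solv : ∀ a ∈ A, a ≠ 1 → Group.IsSolvable (θ a)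

theorem sf_iff [Finite G] {p : ℕ} {A : Subgroup G} {θ : G → Subgroup G} :
    Cfsg.IsSolvableSignalizerFunctor p A θ ↔ SF p A θ := by
  constructor
  · rintro ⟨⟨h1, h2, h3, h4⟩, h5⟩
    exact ⟨h1, h2, fun a ha ha1 => inv_iff.mp (h3 a ha ha1), h4, h5⟩
  · rintro ⟨h1, h2, h3, h4, h5⟩
    exact ⟨⟨h1, h2, fun a ha ha1 => inv_iff.mpr (h3 a ha ha1), h4⟩, h5⟩

variable {p : ℕ} {A : Subgroup G} {θ : G → Subgroup G}

theorem Fam.of_le [Finite G] {U V : Subgroup G} (hU : Fam p A θ U) (hVU : V ≤ U)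
    (hV : A ≤ Subgroup.normalizer (V : Set G)) : Fam p A θ V :=
  ⟨isSolvable_of_le hVU hU.solv, fun h => hU.cop (h.trans (Subgroup.card_dvd_of_le hVU)), hV,
    fun a ha ha1 => (inf_le_inf_right _ hVU).trans (hU.cen a ha ha1)⟩

theorem SF.fam (h : SF p A θ) {a : G} (ha : a ∈ A) (ha1 : a ≠ 1) : Fam p A θ (θ a) :=
  ⟨h.solv a ha ha1, h.cop a ha ha1, h.inv a ha ha1, fun b hb hb1 => h.bal a ha ha1 b hb hb1⟩

theorem fam_bot [Finite G] [hp : Fact p.Prime] : Fam p A θ ⊥ := by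
  refine ⟨inferInstance, ?_, ?_, ?_⟩
  · rw [Subgroup.card_bot]; exact hp.out.one_lt.ne' ∘ Nat.dvd_one.mp
  · intro a _
    rw [Subgroup.mem_normalizer_iff]
    intro x
    simp
  · intro a _ _
    exact inf_le_left.trans bot_le

theorem Fam.sup [Finite G] [Fact p.Prime] (hA : IsPGroup p A) {X Y : Subgroup G}
    (hX : Fam p A θ X) (hY : Fam p A θ Y)
    (hn : Y ≤ Subgroup.normalizer (X : Set G)) : Fam p A θ (X ⊔ Y) := by
  refine ⟨solvable_sup hX.solv hY.solv hn, not_dvd_sup hX.cop hY.cop hn,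
    le_normalizer_sup hX.inv hY.inv, ?_⟩
  intro a ha ha1 g hg
  have hg1 : g ∈ ((X ⊔ Y : Subgroup G) : Set G) := hg.1
  rw [Subgroup.coe_mul_of_right_le_normalizer_left _ _ hn] at hg1
  obtain ⟨x, hx, y, hy, rfl⟩ := Set.mem_mul.mp hg1
  have hza : Subgroup.zpowers a ≤ A := Subgroup.zpowers_le.mpr ha
  obtain ⟨x', hx', y', hy', he⟩ := fixed_of_mul (B := Subgroup.zpowers a) (hza.trans hX.inv)
    (hza.trans hY.inv)
    (Nat.Coprime.coprime_dvd_left (Subgroup.card_dvd_of_le hza) (cop_of hA hX.cop))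
    (Or.inr hX.solv) hx hy (by rw [cz_zpowers]; exact hg.2)
  rw [cz_zpowers] at hx' hy'
  rw [he]
  exact (θ a).mul_mem (hX.cen a ha ha1 hx') (hY.cen a ha ha1 hy')


/-- fixed points lift from quotients (one operator, internal form) -/
theorem exists_fixed_lift [Finite G] [Fact p.Prime] (hA : IsPGroup p A) {U N : Subgroup G}
    (hU : ¬ p ∣ Nat.card U) (hUA : A ≤ Subgroup.normalizer (U : Set G))
    (hNA : A ≤ Subgroup.normalizer (N : Set G)) {B : Subgroup G} (hB : B ≤ A)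
    (hBs : Group.IsSolvable B) {x : G} (hx : x ∈ U)
    (hxb : ∀ b ∈ B, x⁻¹ * (b * x * b⁻¹) ∈ N) :
    ∃ d ∈ U ⊓ N, x * d ∈ U ⊓ Subgroup.centralizer (B : Set G) := by
  obtain ⟨d, hd, hdc⟩ := exists_fixed_in_coset B (U ⊓ N)
    (le_normalizer_inf (hB.trans hUA) (hB.trans hNA))
    (Nat.Coprime.coprime_dvd_left (Subgroup.card_dvd_of_le hB)
      (Nat.Coprime.coprime_dvd_right (Subgroup.card_dvd_of_le inf_le_left) (cop_of hA hU)))
    (Or.inl hBs) x (fun b hb => ⟨U.mul_mem (U.inv_mem hx)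
      ((Subgroup.mem_normalizer_iff.mp (hUA (hB hb)) _).mp hx), hxb b hb⟩)
  exact ⟨d, hd, U.mul_mem hx hd.1, hdc⟩

theorem zpowers_solv (a : G) : Group.IsSolvable (Subgroup.zpowers a) :=
  Group.isSolvable_of_comm
    (fun x y => (inferInstance : IsMulCommutative (Subgroup.zpowers a)).is_comm.comm x y)

theorem SF.quot_bal [Finite G] [Fact p.Prime] (hA : IsPGroup p A) (h : SF p A θ)
    (N : Subgroup G) [N.Normal] {a b : G} (ha : a ∈ A) (ha1 : a ≠ 1) (hb : b ∈ A) (hb1 : b ≠ 1) :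
    (θ a).map (QuotientGroup.mk' N) ⊓ Subgroup.centralizer {QuotientGroup.mk' N b} ≤
      (θ b).map (QuotientGroup.mk' N) := by
  rintro _ ⟨⟨x, hx, rfl⟩, hc⟩
  have hc' : QuotientGroup.mk' N x ∈
      Subgroup.centralizer ((Subgroup.zpowers (QuotientGroup.mk' N b) : Subgroup (G ⧸ N)) : Set (G ⧸ N)) := by
    rw [cz_zpowers]; exact hc
  obtain ⟨d, hd, hdc⟩ := exists_fixed_lift hA (h.cop a ha ha1) (h.inv a ha ha1)
    (Subgroup.le_normalizer_of_normal (H := N) (K := A)) (Subgroup.zpowers_le.mpr hb) (zpowers_solv b) hx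
    (by
      intro b' hb'
      have h1 : QuotientGroup.mk' N b' ∈ Subgroup.zpowers (QuotientGroup.mk' N b) := by
        obtain ⟨k, rfl⟩ := Subgroup.mem_zpowers_iff.mp hb'
        rw [map_zpow]
        exact Subgroup.zpow_mem_zpowers _ _
      have h2 := Subgroup.mem_centralizer_iff.mp hc' _ h1
      rw [← QuotientGroup.ker_mk' N, MonoidHom.mem_ker]
      simp only [map_mul, map_inv]
      rw [h2]
      group)
  rw [cz_zpowers] at hdc
  refine ⟨x * d, h.bal a ha ha1 b hb hb1 hdc, ?_⟩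
  rw [map_mul]
  have : QuotientGroup.mk' N d = 1 := by
    rw [← MonoidHom.mem_ker, QuotientGroup.ker_mk']; exact hd.2
  rw [this, mul_one]

open Cfsg.Agent.Lib.Helper3.CopGen

/-- two cocyclic subgroups of a group of rank at least three meet nontrivially -/
theorem exists_common [Finite G] [hp : Fact p.Prime] (hA : Cfsg.IsElementaryAbelian p A)
    (hA3 : p ^ 3 ≤ Nat.card A) {B₁ B₂ : Subgroup G} (h₁ : CoCyc A B₁) (h₂ : CoCyc A B₂) :
    ∃ a ∈ B₁ ⊓ B₂, a ≠ 1 := by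
  have c1 := h₁.card_le hA hp.out.pos
  have c2 := h₂.card_le hA hp.out.pos
  have hn : B₁ ≤ Subgroup.normalizer (B₂ : Set G) := by
    intro b hb
    apply Subgroup.centralizer_le_normalizer
    rw [Subgroup.mem_centralizer_iff]
    intro z hz
    exact ea_comm hA (h₂.1 hz) (h₁.1 hb)
  have h3 := card_sup_mul_card_inf' B₁ B₂ hn
  have h4 : Nat.card (B₁ ⊔ B₂ : Subgroup G) ≤ Nat.card A :=
    Subgroup.card_le_of_le (sup_le h₁.1 h₂.1)
  by_contra hcon
  push Not at hcon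
  have h5 : B₁ ⊓ B₂ = ⊥ := by
    rw [eq_bot_iff]
    intro x hx
    exact hcon x hx
  rw [h5, Subgroup.card_bot, mul_one] at h3
  have hpos : 0 < Nat.card A := Nat.card_pos
  have h6 : Nat.card A * Nat.card A ≤ Nat.card A * (p * p) := by
    calc Nat.card A * Nat.card A ≤ (Nat.card B₁ * p) * (Nat.card B₂ * p) := Nat.mul_le_mul c1 c2
      _ = (Nat.card B₁ * Nat.card B₂) * (p * p) := by ring
      _ ≤ Nat.card A * (p * p) := Nat.mul_le_mul_right _ (h3 ▸ h4)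
  have h7 : Nat.card A ≤ p * p := Nat.le_of_mul_le_mul_left h6 hpos
  have h8 : p ^ 3 ≤ p * p := hA3.trans h7
  have h9 : p * p < p ^ 3 := by
    have := hp.out.one_lt
    calc p * p = p * p * 1 := by ring
      _ < p * p * p := Nat.mul_lt_mul_of_pos_left this (Nat.mul_pos hp.out.pos hp.out.pos)
      _ = p ^ 3 := by ring
  omega

/-- if `K` (coprime, `A`-invariant) is not inside `D`, some cocyclic centralizer is not -/
theorem exists_cocyc_not_le [Finite G] [Fact p.Prime] (hA : Cfsg.IsElementaryAbelian p A)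
    {K D : Subgroup G} (hK : ¬ p ∣ Nat.card K) (hAK : A ≤ Subgroup.normalizer (K : Set G))
    (hKD : ¬ K ≤ D) : ∃ B, CoCyc A B ∧ ¬ K ⊓ Subgroup.centralizer (B : Set G) ≤ D := by
  by_contra hcon
  push Not at hcon
  apply hKD
  rw [← gen A K hA.1 hAK (cop_of (ea_pGroup hA) hK)]
  exact iSup₂_le fun B hB => hcon B hB

theorem not_dvd_of_pGroup [Finite G] {q : ℕ} [hp : Fact p.Prime] [hq : Fact q.Prime] (hqp : q ≠ p)
    {Q : Subgroup G} (hQ : IsPGroup q Q) : ¬ p ∣ Nat.card Q := by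
  obtain ⟨n, hn⟩ := IsPGroup.iff_card.mp hQ
  rw [hn]
  intro h
  exact hqp ((Nat.prime_dvd_prime_iff_eq hp.out hq.out).mp (hp.out.dvd_of_dvd_pow h)).symm

theorem le_Nz_Nz {U : Subgroup G} (hU : A ≤ Subgroup.normalizer (U : Set G)) :
    A ≤ Subgroup.normalizer ((Subgroup.normalizer (U : Set G) : Subgroup G) : Set G) :=
  hU.trans Subgroup.le_normalizer

theorem two_q_groups [Finite G] [Fact p.Prime] (hA : Cfsg.IsElementaryAbelian p A)
    (hA3 : p ^ 3 ≤ Nat.card A) {q : ℕ} [Fact q.Prime] {Q₁ Q₂ : Subgroup G}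
    (h₁ : IsPGroup q Q₁) (h₂ : IsPGroup q Q₂) (hp₁ : ¬ p ∣ Nat.card Q₁) (hp₂ : ¬ p ∣ Nat.card Q₂)
    (hA₁ : A ≤ Subgroup.normalizer (Q₁ : Set G)) (hA₂ : A ≤ Subgroup.normalizer (Q₂ : Set G))
    (hD₁ : Q₁ ⊓ Q₂ ≠ Q₁) (hD₂ : Q₁ ⊓ Q₂ ≠ Q₂) :
    ∃ a ∈ A, a ≠ 1 ∧
      ¬ (Subgroup.normalizer ((Q₁ ⊓ Q₂ : Subgroup G) : Set G) ⊓ Q₁ ⊓ Subgroup.centralizer {a}
        ≤ Q₁ ⊓ Q₂) ∧
      ¬ (Subgroup.normalizer ((Q₁ ⊓ Q₂ : Subgroup G) : Set G) ⊓ Q₂ ⊓ Subgroup.centralizer {a}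
        ≤ Q₁ ⊓ Q₂) := by
  have hAD := le_normalizer_inf hA₁ hA₂
  have key : ∀ Q : Subgroup G, IsPGroup q Q → ¬ p ∣ Nat.card Q →
      A ≤ Subgroup.normalizer (Q : Set G) → Q₁ ⊓ Q₂ < Q →
      ∃ B, CoCyc A B ∧ ¬ (Subgroup.normalizer ((Q₁ ⊓ Q₂ : Subgroup G) : Set G) ⊓ Q) ⊓
        Subgroup.centralizer (B : Set G) ≤ Q₁ ⊓ Q₂ := by
    intro Q hQ hpQ hAQ hlt
    apply exists_cocyc_not_le hA
    · intro h
      exact hpQ (h.trans (Subgroup.card_dvd_of_le inf_le_right))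
    · exact le_normalizer_inf (le_Nz_Nz hAD) hAQ
    · obtain ⟨s, hs, hsD, hsN⟩ := Cfsg.Agent.Lib.Helper6.PAct.exists_mem_Nz_of_lt hQ.isNilpotent hlt
      intro hle
      exact hsD (hle ⟨hsN, hs⟩)
  obtain ⟨B₁, hB₁, hn₁⟩ := key Q₁ h₁ hp₁ hA₁ (lt_of_le_of_ne inf_le_left hD₁)
  obtain ⟨B₂, hB₂, hn₂⟩ := key Q₂ h₂ hp₂ hA₂ (lt_of_le_of_ne inf_le_right hD₂)
  obtain ⟨a, ha, ha1⟩ := exists_common hA hA3 hB₁ hB₂
  refine ⟨a, hB₁.1 ha.1, ha1, ?_, ?_⟩
  · intro hle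
    apply hn₁
    refine le_trans (inf_le_inf_left _ ?_) hle
    exact Subgroup.centralizer_le (Set.singleton_subset_iff.mpr ha.1)
  · intro hle
    apply hn₂
    refine le_trans (inf_le_inf_left _ ?_) hle
    exact Subgroup.centralizer_le (Set.singleton_subset_iff.mpr ha.2)

end Cfsg.Agent.Lib.Helper9.Sig
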