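import Mathlib
import Cfsg.Prelude.Def_LocalStructure
import Cfsg.Agent.S2896
import Cfsg.Agent.Lib.Helper9.SylCard
import Cfsg.Agent.Lib.Helper1.Cores

set_option autoImplicit false

/-! Parabolic characteristic `p` passes to suitable subnormal subgroups. -/

namespace Cfsg.Agent.Lib.Helper9.ParChar

open Cfsg.Agent.Lib.Helper1 Cfsg.Agent.Lib.Helper9.SylCard
open Cfsg.Agent.Lib.Helper6.Basic Cfsg.Agent.Lib.Helper6.Subn Cfsg.Agent.Lib.Helper6.Quasi Cfsg.Agent.Lib.Helper6.Comp Cfsg.Agent.Lib.Helper6.Rad Cfsg.Agent.Lib.Helper6.Nil Cfsg.Agent.Lib.Helper6.FStar Cfsg.Agent.Lib.Helper6.FStar2 Cfsg.Agent.Lib.Helper6.PAct Cfsg.Agent.Lib.Helper6.CharP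

theorem map_pCore_le {X Y : Type*} [Group X] [Group Y] [Finite X] (p : ℕ) (e : X ≃* Y) :
    (Cfsg.pCore p X).map e.toMonoidHom ≤ Cfsg.pCore p Y :=
  le_pCore ((Cfsg.Agent.Lib.Helper1.pCore_normal p).map _ e.surjective) ((pCore_isPGroup p).map _)

theorem charP_equiv {X Y : Type*} [Group X] [Group Y] [Finite X] (p : ℕ) (e : X ≃* Y)
    (h : Subgroup.centralizer (Cfsg.pCore p X : Set X) ≤ Cfsg.pCore p X) :
    Subgroup.centralizer (Cfsg.pCore p Y : Set Y) ≤ Cfsg.pCore p Y := by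
  intro y hy
  have h1 : e.symm y ∈ Subgroup.centralizer (Cfsg.pCore p X : Set X) := by
    rw [Subgroup.mem_centralizer_iff] at hy ⊢
    intro x hx
    have h2 := hy (e x) (map_pCore_le p e ⟨x, hx, rfl⟩)
    apply e.injective
    simpa using h2
  have h3 := map_pCore_le p e ⟨_, h h1, rfl⟩
  simpa using h3

variable {G : Type*} [Group G] [Finite G]

theorem card_inf_of_le_normalizer {p : ℕ} [hp : Fact p.Prime] {P H M : Subgroup G} (hHM : H ≤ M)
    (hM : M ≤ Nz H) (hPM : P ≤ M) (hP : Nat.card P = p ^ (Nat.card M).factorization p) :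
    Nat.card (P ⊓ H : Subgroup G) = p ^ (Nat.card H).factorization p := by
  have hPp : IsPGroup p P := IsPGroup.of_card hP
  obtain ⟨b, hb⟩ := IsPGroup.iff_card.1 (hPp.to_le (inf_le_left : P ⊓ H ≤ P))
  have e1 := card_sup_mul_card_inf' P H (hPM.trans hM)
  have h1 := fac_eq_of_le_of_le (p := p) (le_sup_left : P ≤ P ⊔ H) (sup_le hPM hHM) hP
  have e2 := congrArg (fun n => n.factorization p) e1
  rw [Nat.factorization_mul Nat.card_pos.ne' Nat.card_pos.ne',
    Nat.factorization_mul Nat.card_pos.ne' Nat.card_pos.ne', Finsupp.add_apply, Finsupp.add_apply,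
    h1, hP, hb, hp.out.factorization_pow, hp.out.factorization_pow, Finsupp.single_eq_same,
    Finsupp.single_eq_same] at e2
  rw [hb]
  congr 1
  omega

theorem card_inf_of_SN {p : ℕ} [hp : Fact p.Prime] {P H K : Subgroup G} (h : SN H K)
    (hPK : P ≤ K) (hP : Nat.card P = p ^ (Nat.card K).factorization p) :
    Nat.card (P ⊓ H : Subgroup G) = p ^ (Nat.card H).factorization p := by
  induction h with
  | refl K => rw [inf_eq_left.mpr hPK]; exact hP
  | step h1 h2 _ ih =>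
    have h3 := card_inf_of_le_normalizer h1 h2 inf_le_right (ih hPK hP)
    rwa [inf_assoc, inf_eq_right.mpr h1] at h3

theorem parChar_of_SN {p : ℕ} [hp : Fact p.Prime] (hG : Cfsg.IsOfParabolicCharacteristic p G)
    (S : Sylow p G) (G₁ : Subgroup G) (hsn : SN G₁ ⊤) (hne : (S : Subgroup G) ⊓ G₁ ≠ ⊥)
    (hle : ∀ z, z ∈ ((S : Subgroup G) ⊓ G₁) ⊓ Cz ((S : Subgroup G) ⊓ G₁) → z ^ p = 1 →
      z ∈ (S : Subgroup G) ⊓ Cz (S : Subgroup G)) :
    Cfsg.IsOfParabolicCharacteristic p ↥G₁ := by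
  have hSp : IsPGroup p ↥(S : Subgroup G) := S.isPGroup'
  have hcard : Nat.card ((S : Subgroup G) ⊓ G₁ : Subgroup G) = p ^ (Nat.card G₁).factorization p :=
    card_inf_of_SN hsn le_top (by rw [Subgroup.card_top]; exact S.card_eq_multiplicity)
  have hdiv : p ∣ Nat.card ↥G₁ := by
    by_contra hnd
    rw [Nat.factorization_eq_zero_of_not_dvd hnd, pow_zero, Subgroup.card_eq_one] at hcard
    exact hne hcard
  let S₁ : Sylow p ↥G₁ := Sylow.ofCard (((S : Subgroup G) ⊓ G₁).subgroupOf G₁) (by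
    rw [card_subgroupOf inf_le_right, hcard])
  have hS₁ : (S₁ : Subgroup ↥G₁) = ((S : Subgroup G) ⊓ G₁).subgroupOf G₁ := rfl
  apply ((Cfsg.Agent.S2896.result hdiv S₁ ⊥ bot_le).2.1).mpr
  intro z' hz1 hzΩ
  rw [gfit_eq_pCore_iff, ← chP_bridge]
  -- the image of z'
  have hzZ : (z' : G) ∈ (S : Subgroup G) ⊓ Cz (S : Subgroup G) := by
    have h1 : Cfsg.omegaOne p ((S₁ : Subgroup ↥G₁) ⊓
        Subgroup.centralizer ((S₁ : Subgroup ↥G₁) : Set ↥G₁)) ≤
        ((S : Subgroup G) ⊓ Cz (S : Subgroup G)).comap G₁.subtype := by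
      unfold Cfsg.omegaOne
      rw [Subgroup.closure_le]
      intro x hx
      obtain ⟨⟨hx1, hx2⟩, hx3⟩ := hx
      apply hle
      · refine ⟨hx1, ?_⟩
        have hx2' : x ∈ Subgroup.centralizer ((S₁ : Subgroup ↥G₁) : Set ↥G₁) := hx2
        show (x : G) ∈ Cz ((S : Subgroup G) ⊓ G₁)
        rw [Subgroup.mem_centralizer_iff] at hx2' ⊢
        have hx2 := hx2'
        intro y hy
        have := hx2 ⟨y, hy.2⟩ hy
        exact congrArg Subtype.val this
      · exact congrArg Subtype.val hx3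
    exact h1 hzΩ
  have hz1' : (z' : G) ≠ 1 := fun h => hz1 (Subtype.ext h)
  have hC : ChP p (Subgroup.centralizer ({(z' : G)} : Set G)) := by
    have hR : IsPGroup p ↥(Subgroup.zpowers (z' : G)) := hSp.to_le (Subgroup.zpowers_le.mpr hzZ.1)
    have hR1 : Subgroup.zpowers (z' : G) ≠ ⊥ := Subgroup.zpowers_ne_bot.mpr hz1'
    have hSC : (S : Subgroup G) ≤ Cz (Subgroup.zpowers (z' : G)) :=
      le_Cz_comm.mp (Subgroup.zpowers_le.mpr hzZ.2)
    have h1 := hG (Subgroup.zpowers (z' : G)) hR hR1 ⟨S, hSC.trans (Cz_le_Nz _)⟩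
    rw [chP_bridge] at h1
    rw [Cfsg.Agent.S2896.centralizer_singleton_eq]
    exact h1.sn (SN.of_normal (Cz_le_Nz _) (Nz_le_Nz_Cz _))
  have hC1 : ChP p (G₁ ⊓ Subgroup.centralizer ({(z' : G)} : Set G)) := by
    apply hC.sn
    have := hsn.inf_right (Subgroup.centralizer ({(z' : G)} : Set G))
    rwa [top_inf_eq] at this
  rw [← chP_bridge] at hC1
  have hmap : (Subgroup.centralizer ({z'} : Set ↥G₁)).map G₁.subtype =
      G₁ ⊓ Subgroup.centralizer ({(z' : G)} : Set G) := by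
    ext x
    constructor
    · rintro ⟨y, hy, rfl⟩
      refine ⟨y.2, ?_⟩
      rw [SetLike.mem_coe, Subgroup.mem_centralizer_singleton_iff] at hy
      show (y : G) ∈ Subgroup.centralizer ({(z' : G)} : Set G)
      rw [Subgroup.mem_centralizer_singleton_iff]
      exact congrArg Subtype.val hy
    · rintro ⟨hx1, hx2⟩
      refine ⟨⟨x, hx1⟩, ?_, rfl⟩
      have hx2 : x ∈ Subgroup.centralizer ({(z' : G)} : Set G) := hx2
      rw [Subgroup.mem_centralizer_singleton_iff] at hx2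
      rw [SetLike.mem_coe, Subgroup.mem_centralizer_singleton_iff]
      exact Subtype.ext hx2
  exact charP_equiv p ((MulEquiv.subgroupCongr hmap.symm).trans
    ((Subgroup.centralizer ({z'} : Set ↥G₁)).equivMapOfInjective G₁.subtype
      G₁.subtype_injective).symm) hC1

end Cfsg.Agent.Lib.Helper9.ParChar
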