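import Mathlib
import Cfsg.Prelude.Def_Local
import Cfsg.Agent.Lib.Helper1.Cores
import Cfsg.Agent.Lib.Helper1.Misc
import Cfsg.Agent.Lib.Helper1.FittingSolv
import Cfsg.Agent.Lib.Helper9.ParChar

set_option autoImplicit false

/-! Hall–Higman 1.2.3 for solvable groups, invariance of `O_{p'}`, `O_{p',p}` under isomorphisms. -/

namespace Cfsg.Agent.Lib.Helper9.HHSolv

open Cfsg.Agent.Lib.Helper1 Cfsg.Agent.Lib.Helper9.ParChar

theorem map_pPrimeCore_le {X Y : Type*} [Group X] [Group Y] [Finite X] (p : ℕ) (e : X ≃* Y) :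
    (Cfsg.pPrimeCore p X).map e.toMonoidHom ≤ Cfsg.pPrimeCore p Y :=
  le_pPrimeCore ((Cfsg.Agent.Lib.Helper1.pPrimeCore_normal p).map _ e.surjective) (by
    rw [Subgroup.card_map_of_injective e.injective]; exact pPrimeCore_coprime p)

theorem map_pPrimeCore_equiv {X Y : Type*} [Group X] [Group Y] [Finite X] (p : ℕ) (e : X ≃* Y) :
    (Cfsg.pPrimeCore p X).map e.toMonoidHom = Cfsg.pPrimeCore p Y := by
  apply le_antisymm (map_pPrimeCore_le p e)
  intro y hy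
  have : Finite Y := Finite.of_equiv X e.toEquiv
  have h1 := map_pPrimeCore_le p e.symm ⟨y, hy, rfl⟩
  exact ⟨_, h1, by simp⟩

theorem map_pPrimePCore_le {X Y : Type*} [Group X] [Group Y] [Finite X] (p : ℕ) (e : X ≃* Y) :
    (Cfsg.pPrimePCore p X).map e.toMonoidHom ≤ Cfsg.pPrimePCore p Y := by
  rintro _ ⟨x, hx, rfl⟩
  have : (Cfsg.pPrimeCore p X).Normal := Cfsg.Agent.Lib.Helper1.pPrimeCore_normal p
  have : (Cfsg.pPrimeCore p Y).Normal := Cfsg.Agent.Lib.Helper1.pPrimeCore_normal p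
  have h1 := map_pCore_le p
    (QuotientGroup.congr (Cfsg.pPrimeCore p X) (Cfsg.pPrimeCore p Y) e (map_pPrimeCore_equiv p e))
    ⟨_, hx, rfl⟩
  exact h1

/-- conjugation by a normalizing element as an automorphism of the subgroup -/
def conjEquiv {H : Type*} [Group H] (K : Subgroup H) (a : H)
    (ha : a ∈ Subgroup.normalizer (K : Set H)) : ↥K ≃* ↥K where
  toFun x := ⟨a * x * a⁻¹, (Subgroup.mem_normalizer_iff.mp ha x).mp x.2⟩
  invFun x := ⟨a⁻¹ * x * a, (Subgroup.mem_normalizer_iff''.mp ha x).mp x.2⟩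
  left_inv x := Subtype.ext (by simp [mul_assoc])
  right_inv x := Subtype.ext (by simp [mul_assoc])
  map_mul' x y := Subtype.ext (by simp [mul_assoc])

theorem Nz_le_Nz_pPrimePCore {H : Type*} [Group H] [Finite H] (p : ℕ) (K : Subgroup H) :
    Subgroup.normalizer (K : Set H) ≤
      Subgroup.normalizer (((Cfsg.pPrimePCore p ↥K).map K.subtype : Subgroup H) : Set H) := by
  intro a ha
  apply Subgroup.mem_normalizer_fintype
  rintro _ ⟨x, hx, rfl⟩
  exact ⟨_, map_pPrimePCore_le p (conjEquiv K a ha) ⟨x, hx, rfl⟩, rfl⟩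

variable {X : Type*} [Group X] [Finite X] {q : ℕ} [hq : Fact q.Prime]

theorem hh_solv (hX : Group.IsSolvable X) (hO : Cfsg.pPrimeCore q X = ⊥) :
    Subgroup.centralizer (Cfsg.pCore q X : Set X) ≤ Cfsg.pCore q X := by
  have h1 := centralizer_fitting_le (G := X)
  rwa [fitting_eq_pCore_of_pPrimeCore_eq_bot q hO] at h1

theorem hh_solv_rel (hX : Group.IsSolvable X) (g : X)
    (hg : ∀ x ∈ Cfsg.pPrimePCore q X, g * x * g⁻¹ * x⁻¹ ∈ Cfsg.pPrimeCore q X) :
    g ∈ Cfsg.pPrimePCore q X := by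
  have : (Cfsg.pPrimeCore q X).Normal := Cfsg.Agent.Lib.Helper1.pPrimeCore_normal q
  have h1 := hh_solv (q := q) (X := X ⧸ Cfsg.pPrimeCore q X) inferInstance
    (pPrimeCore_quotient_eq_bot q _ rfl)
  show QuotientGroup.mk' _ g ∈ Cfsg.pCore q (X ⧸ Cfsg.pPrimeCore q X)
  apply h1
  rw [Subgroup.mem_centralizer_iff]
  intro y hy
  obtain ⟨x, rfl⟩ := QuotientGroup.mk'_surjective _ y
  have hx : x ∈ Cfsg.pPrimePCore q X := hy
  have := (QuotientGroup.eq_one_iff _).2 (hg x hx)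
  have h2 : QuotientGroup.mk' (Cfsg.pPrimeCore q X) g * QuotientGroup.mk' _ x *
      (QuotientGroup.mk' _ g)⁻¹ * (QuotientGroup.mk' _ x)⁻¹ = 1 := by
    simpa using this
  have h3 := mul_inv_eq_one.1 h2
  rw [mul_inv_eq_iff_eq_mul] at h3
  exact h3.symm

/-- a `q'`-element of `O_{q',q}` lies in `O_{q'}` -/
theorem mem_core_of_coprime {g : X} (hg : g ∈ Cfsg.pPrimePCore q X) (ho : (orderOf g).Coprime q) :
    g ∈ Cfsg.pPrimeCore q X := by
  have : (Cfsg.pPrimeCore q X).Normal := Cfsg.Agent.Lib.Helper1.pPrimeCore_normal q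
  have h1 : QuotientGroup.mk' (Cfsg.pPrimeCore q X) g ∈ Cfsg.pCore q (X ⧸ Cfsg.pPrimeCore q X) := hg
  obtain ⟨k, hk⟩ := (pCore_isPGroup q (G := X ⧸ Cfsg.pPrimeCore q X)) ⟨_, h1⟩
  have hk' : (QuotientGroup.mk' (Cfsg.pPrimeCore q X) g) ^ q ^ k = 1 := congrArg Subtype.val hk
  have h2 : orderOf (QuotientGroup.mk' (Cfsg.pPrimeCore q X) g) ∣ q ^ k := orderOf_dvd_of_pow_eq_one hk'
  have h3 : orderOf (QuotientGroup.mk' (Cfsg.pPrimeCore q X) g) ∣ orderOf g := orderOf_map_dvd _ g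
  have h4 : orderOf (QuotientGroup.mk' (Cfsg.pPrimeCore q X) g) = 1 :=
    Nat.eq_one_of_dvd_coprimes (Nat.Coprime.pow_right k ho) h3 h2
  rw [orderOf_eq_one_iff] at h4
  rw [← QuotientGroup.ker_mk' (Cfsg.pPrimeCore q X), MonoidHom.mem_ker]
  exact h4

end Cfsg.Agent.Lib.Helper9.HHSolv
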