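import Mathlib
import Cfsg.Agent.Lib.Helper9.PComp
import Cfsg.Agent.Lib.Helper3.Bar5
import Cfsg.Agent.Lib.Helper1.FittingSolv

set_option autoImplicit false
set_option linter.unusedSectionVars false

/-! `p`-constraint and the `p`-layer. -/

namespace Cfsg.Agent.Lib.Helper9.PComp

open Cfsg.Agent.Lib.Helper6.Basic Cfsg.Agent.Lib.Helper6.Subn Cfsg.Agent.Lib.Helper6.Quasi Cfsg.Agent.Lib.Helper6.Comp Cfsg.Agent.Lib.Helper6.Rad Cfsg.Agent.Lib.Helper6.Nil Cfsg.Agent.Lib.Helper6.FStar Cfsg.Agent.Lib.Helper6.FStar2 Cfsg.Agent.Lib.Helper6.PAct Cfsg.Agent.Lib.Helper6.CharP Cfsg.Agent.Lib.Helper6.Ores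
open Cfsg.Agent.Lib.Helper3.PLocal

variable {X : Type*} [Group X] [Finite X] {p : ℕ} [hp : Fact p.Prime]

/-- with `O_{p'} = 1`, characteristic `p` means trivial layer -/
theorem chP_top_iff_layer (hO : Cfsg.pPrimeCore p X = ⊥) :
    ChP p (⊤ : Subgroup X) ↔ Cfsg.layer X = ⊥ := by
  rw [chP_iff_Fs, layer_eq]
  constructor
  · intro h
    rw [eq_bot_iff]
    apply sSup_le
    intro L hL
    exfalso
    have h1 : L ≤ Op p (⊤ : Subgroup X) := by
      rw [← h]
      exact (le_sSup hL).trans le_sup_left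
    exact hL.2.not_le_solvable (solvable_of_pGroup (Op_isPGroup p ⊤)) h1
  · intro h
    unfold Fs
    rw [h, bot_sup_eq, ← fitting_eq, ← pCore_eq]
    exact Cfsg.Agent.Lib.Helper1.fitting_eq_pCore_of_pPrimeCore_eq_bot p hO

theorem pLayer_eq_bot_iff :
    Cfsg.pLayer p X = ⊥ ↔ Cfsg.layer (X ⧸ Cfsg.pPrimeCore p X) = ⊥ := by
  rw [← map_pLayer]
  constructor
  · intro h
    rw [h, Subgroup.map_bot]
  · intro h
    rw [Subgroup.map_eq_bot_iff, QuotientGroup.ker_mk'] at h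
    rw [eq_bot_iff]
    apply sSup_le
    intro K hK
    exact absurd ((le_sSup hK).trans h) (pc_not_le_core hK)

theorem pConstrained_iff_pLayer : Cfsg.IsPConstrained p X ↔ Cfsg.pLayer p X = ⊥ := by
  rw [pConstrained_iff, chP_top_bridge, chP_top_iff_layer core_quot, pLayer_eq_bot_iff]

end Cfsg.Agent.Lib.Helper9.PComp
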