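import Mathlib
import Cfsg.Prelude.Def_Balance
import Cfsg.Agent.Lib.Helper9.PComp2
import Cfsg.Agent.Lib.Helper9.Sig

set_option autoImplicit false
set_option linter.unusedSectionVars false

/-! Balance of the cores of centralizers under `p`-constraint. -/

namespace Cfsg.Agent.Lib.Helper9.Bal

open Cfsg.Agent.Lib.Helper6.Basic Cfsg.Agent.Lib.Helper6.Subn Cfsg.Agent.Lib.Helper6.Quasi Cfsg.Agent.Lib.Helper6.Comp Cfsg.Agent.Lib.Helper6.Rad Cfsg.Agent.Lib.Helper6.Nil Cfsg.Agent.Lib.Helper6.FStar Cfsg.Agent.Lib.Helper6.FStar2 Cfsg.Agent.Lib.Helper6.PAct Cfsg.Agent.Lib.Helper6.CharP Cfsg.Agent.Lib.Helper6.Ores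
open Cfsg.Agent.Lib.Helper3.PLocal Cfsg.Agent.Lib.Helper9.PComp Cfsg.Agent.Lib.Helper9.Sig

variable {X : Type*} [Group X] [Finite X] {p : ℕ} [hp : Fact p.Prime]

theorem pConstrained_of_solvable (hX : Group.IsSolvable X) : Cfsg.IsPConstrained p X := by
  rw [pConstrained_iff_pLayer]
  unfold Cfsg.pLayer
  rw [sSup_eq_bot]
  intro K hK
  by_contra hne
  have h1 := Group.IsSolvable.commutator_lt_of_ne_bot hne
  rw [pc_perfect hK] at h1
  exact lt_irrefl _ h1

theorem Op'_centralizer (hG : Cfsg.IsPConstrained p X) {P : Subgroup X} (hP : IsPGroup p P) :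
    Op' p (Subgroup.centralizer (P : Set X)) =
      Cfsg.pPrimeCore p X ⊓ Subgroup.centralizer (P : Set X) := by
  have hsn : SN (Subgroup.centralizer (P : Set X)) (Subgroup.normalizer (P : Set X)) :=
    SN.of_normal (Subgroup.centralizer_le_normalizer _) (Nz_le_Nz_Cz P)
  rw [Op'_eq_inf_of_sn hsn, Op'_normalizer hG hP, inf_assoc,
    inf_eq_right.2 (Subgroup.centralizer_le_normalizer _)]

theorem cpc_eq (a : X) : Cfsg.centralizerPPrimeCore p a = Op' p (Subgroup.centralizer {a}) :=
  map_pPrimeCore p _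

/-- balance: `O_{p'}(C(a)) ∩ C(b) ≤ O_{p'}(C(b))` when `C(b)` is `p`-constrained -/
theorem core_bal {a b : X} (hab : a * b = b * a) (ha : IsPGroup p (Subgroup.zpowers a))
    (hc : Cfsg.IsPConstrained p ↥(Subgroup.centralizer ({b} : Set X))) :
    Cfsg.centralizerPPrimeCore p a ⊓ Subgroup.centralizer {b} ≤ Cfsg.centralizerPPrimeCore p b := by
  rw [cpc_eq]
  set Cb := Subgroup.centralizer ({b} : Set X) with hCb
  set Y := Op' p (Subgroup.centralizer ({a} : Set X)) ⊓ Cb with hY
  have haC : a ∈ Cb := by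
    rw [hCb, Subgroup.mem_centralizer_iff]
    intro z hz
    rw [show z = b from hz]
    exact hab.symm
  set aH : ↥Cb := ⟨a, haC⟩ with haH
  have hP : IsPGroup p (Subgroup.zpowers aH) := by
    have e : (Subgroup.zpowers aH).map Cb.subtype = Subgroup.zpowers a := by
      rw [MonoidHom.map_zpowers]; rfl
    exact (e ▸ ha).of_equiv
      ((Subgroup.zpowers aH).equivMapOfInjective _ Cb.subtype_injective).symm
  have h1 := Op'_centralizer hc hP
  rw [cz_zpowers] at h1
  have h2 : Y.subgroupOf Cb ≤ Op' p (Subgroup.centralizer ({aH} : Set ↥Cb)) := by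
    apply le_Op'_of_sn
    · apply SN.of_normal
      · intro y hy
        have hy1 : (y : X) ∈ Subgroup.centralizer ({a} : Set X) := Op'_le _ _ hy.1
        rw [Subgroup.mem_centralizer_iff] at hy1 ⊢
        intro z hz
        rw [show z = aH from hz]
        exact Subtype.ext (hy1 a rfl)
      · intro y hy
        have hy1 : (y : X) ∈ Subgroup.centralizer ({a} : Set X) := by
          rw [Subgroup.mem_centralizer_iff] at hy ⊢
          intro z hz
          rw [show z = a from hz]
          exact congrArg Subtype.val (hy aH rfl)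
        have hy2 := le_Nz_Op' p _ hy1
        rw [Subgroup.mem_normalizer_iff] at hy2 ⊢
        intro z
        rw [Subgroup.mem_subgroupOf, Subgroup.mem_subgroupOf, hY, Subgroup.mem_inf, Subgroup.mem_inf]
        constructor
        · intro hz
          exact ⟨(hy2 z).mp hz.1, (y * z * y⁻¹).2⟩
        · intro hz
          exact ⟨(hy2 z).mpr hz.1, z.2⟩
    · rw [Cfsg.Agent.Lib.Helper1.card_subgroupOf inf_le_right]
      exact Nat.Coprime.coprime_dvd_left (Subgroup.card_dvd_of_le inf_le_left) (Op'_coprime p _)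
  rw [h1] at h2
  intro y hy
  have hyC : y ∈ Cb := hy.2
  exact ⟨⟨y, hyC⟩, (h2 (show (⟨y, hyC⟩ : ↥Cb) ∈ Y.subgroupOf Cb from hy)).1, rfl⟩

end Cfsg.Agent.Lib.Helper9.Bal
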