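import Mathlib

set_option autoImplicit false

namespace Cfsg.Agent.Lib.Helper9.PFix

variable {G : Type*} [Group G]

/-- A `p`-group `T` normalising a nontrivial finite `p`-group `R` centralises a nontrivial element
of `R`. -/
theorem exists_fixed [Finite G] {p : ℕ} [hp : Fact p.Prime] {R T : Subgroup G} (hR : IsPGroup p R)
    (hT : IsPGroup p T) (hTR : T ≤ Subgroup.normalizer (R : Set G)) (hne : R ≠ ⊥) :
    ∃ z ∈ R, z ≠ 1 ∧ ∀ t ∈ T, t * z * t⁻¹ = z := by
  have hT' : IsPGroup p (T.subgroupOf (Subgroup.normalizer (R : Set G))) := hT.comap_subtype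
  have hnt : Nontrivial R := (Subgroup.nontrivial_iff_ne_bot R).mpr hne
  obtain ⟨n, hn0, hn⟩ := hR.nontrivial_iff_card.mp hnt
  have hdvd : p ∣ Nat.card R := hn ▸ dvd_pow_self p (by omega)
  have h1 : (1 : R) ∈ MulAction.fixedPoints (T.subgroupOf (Subgroup.normalizer (R : Set G))) R := by
    intro t
    exact smul_one t
  obtain ⟨b, hb, hb1⟩ := hT'.exists_fixed_point_of_prime_dvd_card_of_fixed_point R hdvd h1
  refine ⟨b.1, b.2, ?_, ?_⟩
  · intro h
    exact hb1 (Subtype.ext h.symm)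
  · intro t ht
    have := hb ⟨⟨t, hTR ht⟩, ht⟩
    exact congrArg Subtype.val this

end Cfsg.Agent.Lib.Helper9.PFix
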