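import Mathlib
import Cfsg.Agent.Lib.Helper1.ThFPF
import Cfsg.Agent.Lib.Helper6.Ores
import Cfsg.Agent.Lib.Helper3.CopGen
import Cfsg.Agent.Lib.Helper9.PFix
import Cfsg.Agent.Lib.Helper9.SylowIn

set_option autoImplicit false
set_option linter.unusedSectionVars false

/-! Kegel's theorem on `H_p`-groups and the Hughes--Thompson theorem. -/

namespace Cfsg.Agent.Lib.Helper9.Kegel

open Cfsg.Agent.Lib.Helper6.Basic Cfsg.Agent.Lib.Helper6.Subn Cfsg.Agent.Lib.Helper6.Nil
  Cfsg.Agent.Lib.Helper6.Ores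
open scoped Pointwise commutatorElement IsMulCommutative

universe u

variable {G : Type u} [Group G]

/-- `H` is a proper normal subgroup outside of which every element has `p`-th power `1` -/
def HK (p : ℕ) (H : Subgroup G) : Prop := H.Normal ∧ H ≠ ⊤ ∧ ∀ g, g ∉ H → g ^ p = 1

theorem syl_Nz_le [Finite G] {r : ℕ} [Fact r.Prime] {S M : Subgroup G} (h : Syl r S M)
    (hn : M ≤ Nz S) : Nz M ≤ Nz S := by
  intro g hg
  have h1 : Syl r (cj g S) M := by
    have := h.cj g
    rwa [cj_eq_self_iff.mpr hg] at this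
  obtain ⟨k, hk, hk2⟩ := h.conj h1
  rw [cj_eq_self_iff.mpr (hn hk)] at hk2
  exact cj_eq_self_iff.mp hk2

theorem syl_Nz_le_of_nil [Finite G] {r : ℕ} [Fact r.Prime] {S M : Subgroup G} (h : Syl r S M)
    (hM : Group.IsNilpotent ↥M) : Nz M ≤ Nz S := by
  obtain ⟨P, hP⟩ := h.exists_sylow'
  have h0 : ∀ (p : ℕ) (_ : Fact p.Prime) (P : Sylow p ↥M), (P : Subgroup ↥M).Normal :=
    ((Group.isNilpotent_of_finite_tfae (G := ↥M)).out 0 3).mp hM
  have h1 := h0 r inferInstance P
  haveI := P.characteristic_of_normal h1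
  rw [← hP]
  exact Nz_le_Nz_map_char (K := M) (P : Subgroup ↥M)

theorem nil_of_syl [Finite G] {H : Subgroup G}
    (h : ∀ (r : ℕ) [Fact r.Prime] (S : Subgroup G), Syl r S H → H ≤ Nz S) :
    Group.IsNilpotent ↥H := by
  apply ((Group.isNilpotent_of_finite_tfae (G := ↥H)).out 3 0).mp
  intro r _ P
  have h1 := h r _ (syl_of_sylow' P)
  constructor
  intro n hn g
  have h2 := (Subgroup.mem_normalizer_iff.mp (h1 g.2) (n : G)).mp ⟨n, hn, rfl⟩
  obtain ⟨y, hy, hy2⟩ := h2
  have : y = g * n * g⁻¹ := Subtype.ext hy2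
  rwa [← this]

theorem syl_map [Finite G] {r : ℕ} {S H Z : Subgroup G} [Z.Normal] (h : Syl r S H) (hZ : Z ≤ H) :
    Syl r (S.map (QuotientGroup.mk' Z)) (H.map (QuotientGroup.mk' Z)) := by
  refine ⟨Subgroup.map_mono h.1, h.2.1.map _, fun hd => h.2.2 ?_⟩
  rw [Subgroup.relIndex_map_map, QuotientGroup.ker_mk', sup_eq_left.mpr hZ] at hd
  exact hd.trans (Subgroup.relIndex_dvd_of_le_left H le_sup_left)

theorem le_Nz_sup_of_quot [Finite G] {r : ℕ} [Fact r.Prime] {S H Z : Subgroup G} [Z.Normal]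
    (h : Syl r S H) (hZ : Z ≤ H) (hq : Group.IsNilpotent ↥(H.map (QuotientGroup.mk' Z))) :
    H ≤ Nz (S ⊔ Z) := by
  have h1 := syl_Nz_le_of_nil (syl_map h hZ) hq
  intro x hx
  have h2 : QuotientGroup.mk' Z x ∈ Nz (S.map (QuotientGroup.mk' Z)) :=
    h1 (Subgroup.le_normalizer ⟨x, hx, rfl⟩)
  have h3 := Subgroup.le_normalizer_comap (QuotientGroup.mk' Z) (H := S.map (QuotientGroup.mk' Z))
    (Subgroup.mem_comap.mpr h2)
  rwa [Subgroup.comap_map_eq, QuotientGroup.ker_mk'] at h3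

/-- powers of an element of order `p` outside `H` meet `H` trivially -/
theorem zpow_trick {p : ℕ} (hp : p.Prime) {H : Subgroup G} {x y : G} (hx : x ∉ H) (hxp : x ^ p = 1)
    (hy : y ∈ Subgroup.zpowers x) (hyH : y ∈ H) : y = 1 := by
  obtain ⟨i, rfl⟩ := Subgroup.mem_zpowers_iff.mp hy
  by_cases hd : (p : ℤ) ∣ i
  · obtain ⟨k, rfl⟩ := hd
    rw [zpow_mul, zpow_natCast, hxp, one_zpow]
  · exfalso
    have hc : IsCoprime (p : ℤ) i := (Nat.prime_iff_prime_int.mp hp).coprime_iff_not_dvd.mpr hd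
    obtain ⟨a, b, hab⟩ := hc
    apply hx
    have h1 : x = (x ^ i) ^ b := by
      have h2 : x ^ (a * p + b * i) = x := by rw [hab, zpow_one]
      rw [zpow_add, mul_comm a, zpow_mul, zpow_natCast, hxp, one_zpow, one_mul, mul_comm b,
        zpow_mul] at h2
      exact h2.symm
    rw [h1]
    exact H.zpow_mem hyH b

theorem dedekind {p : ℕ} (hp : p.Prime) {H K : Subgroup G} {x : G} (hx : x ∉ H) (hxp : x ^ p = 1)
    (hK : K ≤ H) (hn : x ∈ Nz K) : (K ⊔ Subgroup.zpowers x) ⊓ H ≤ K := by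
  rintro y ⟨hy1, hy2⟩
  have hy1' : y ∈ ((K ⊔ Subgroup.zpowers x : Subgroup G) : Set G) := hy1
  rw [Subgroup.coe_mul_of_right_le_normalizer_left K _ (Subgroup.zpowers_le.mpr hn)] at hy1'
  obtain ⟨a, ha, b, hb, rfl⟩ := Set.mem_mul.mp hy1'
  have hbH : b ∈ H := by
    have := H.mul_mem (H.inv_mem (hK ha)) hy2
    simpa using this
  rw [zpow_trick hp hx hxp hb hbH, mul_one]
  exact ha

theorem mul_pow_eq (v g : G) (n : ℕ) :
    (v * g) ^ n = ((List.range n).map (fun i => g ^ i * v * (g ^ i)⁻¹)).prod * g ^ n := by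
  induction n with
  | zero => simp
  | succ n ih =>
    rw [pow_succ, ih, List.range_succ, List.map_append, List.prod_append]
    simp only [List.map_cons, List.map_nil, List.prod_cons, List.prod_nil, mul_one]
    rw [pow_succ]; group

theorem pow_coset {Q : Subgroup G} {x a : G} (hx : x ∈ Subgroup.normalizer (Q : Set G)) (ha : a ∈ Q)
    (k : ℕ) : (x ^ k)⁻¹ * (x * a) ^ k ∈ Q := by
  induction k with
  | zero => simp
  | succ k ih =>
    have h1 : (x ^ (k + 1))⁻¹ * (x * a) ^ (k + 1) = x⁻¹ * ((x ^ k)⁻¹ * (x * a) ^ k) * x⁻¹⁻¹ * a := by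
      rw [pow_succ' x, pow_succ (x * a)]; group
    rw [h1]
    exact Q.mul_mem ((Subgroup.mem_normalizer_iff.mp (Subgroup.inv_mem _ hx) _).mp ih) ha

theorem eq_of_pow_eq {p k : ℕ} (hp : p.Prime) (hk : k.Coprime p) {g h : G} (hg : g ^ p = 1)
    (hh : h ^ p = 1) (e : g ^ k = h ^ k) : g = h := by
  obtain ⟨m, -, hm⟩ := Nat.exists_mul_mod_eq_one_of_coprime hk hp.one_lt
  have h1 : ∀ y : G, y ^ p = 1 → y = (y ^ k) ^ m := by
    intro y hy
    rw [← pow_mul, pow_eq_pow_mod _ hy, hm, pow_one]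
  rw [h1 g hg, h1 h hh, e]

open Cfsg.Agent.Lib.Helper1 in
/-- the norm trick -/
theorem norm_central [Finite G] {p : ℕ} (hp : p.Prime) (V Q : Subgroup G) [IsMulCommutative V]
    (hQV : Q ≤ Subgroup.normalizer (V : Set G)) {x : G} (hxV : x ∈ Subgroup.normalizer (V : Set G))
    (hxQ : x ∈ Subgroup.normalizer (Q : Set G))
    (h1 : ∀ a ∈ Q, (x * a) ^ p = 1) (h2 : ∀ a ∈ Q, ∀ v ∈ V, (v * (x * a)) ^ p = 1)
    (hcop : (Nat.card Q).Coprime (Nat.card V)) :
    Q ≤ Subgroup.centralizer (V : Set G) := by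
  have key : ∀ w ∈ ⁅V, Q⁆, w = 1 := by
    intro w hw
    letI := Fintype.ofFinite Q
    obtain ⟨y, hy, hyw⟩ := commutator_le_ker_normMap Q V hQV hw
    have hy1 : normMap Q V hQV y = 1 := hy
    have hyw' : (y : G) = w := hyw
    have hg : ∀ (a : Q) (i : ℕ), (x * a) ^ i ∈ Subgroup.normalizer (V : Set G) := fun a i =>
      Subgroup.pow_mem _ (Subgroup.mul_mem _ hxV (hQV a.2)) i
    let t : ℕ → Q → V := fun i a => (⟨(x * a) ^ i, hg a i⟩ : Subgroup.normalizer (V : Set G)) • y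
    have h3 : ∀ a : Q, ∏ i ∈ Finset.range p, t i a = 1 := by
      intro a
      apply Subtype.ext
      rw [coe_prod_range]
      have h4 := mul_pow_eq (y : G) (x * a) p
      rw [h1 a a.2, h2 a a.2 y y.2, mul_one] at h4
      exact h4.symm
    have h4 : ∏ i ∈ Finset.range p, ∏ a : Q, t i a = 1 := by
      rw [Finset.prod_comm]
      exact Finset.prod_eq_one (fun a _ => h3 a)
    obtain ⟨s, rfl⟩ := Nat.exists_eq_succ_of_ne_zero hp.ne_zero
    rw [Finset.prod_range_succ'] at h4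
    have h5 : ∀ i ∈ Finset.range s, ∏ a : Q, t (i + 1) a = 1 := by
      intro i hi
      have hi' : i + 1 < s + 1 := Nat.succ_lt_succ (Finset.mem_range.mp hi)
      have hcop' : (i + 1).Coprime (s + 1) :=
        (Nat.coprime_of_lt_prime (Nat.succ_ne_zero i) hi' hp).symm
      let c : Q → Q := fun a => ⟨(x ^ (i + 1))⁻¹ * (x * a) ^ (i + 1), pow_coset hxQ a.2 _⟩
      have hc : Function.Bijective c := by
        rw [← Finite.injective_iff_bijective]
        intro a b hab
        have h6 : (x ^ (i + 1))⁻¹ * (x * a) ^ (i + 1) = (x ^ (i + 1))⁻¹ * (x * b) ^ (i + 1) :=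
          congrArg Subtype.val hab
        have h7 := eq_of_pow_eq hp hcop' (h1 a a.2) (h1 b b.2) (mul_left_cancel h6)
        exact Subtype.ext (mul_left_cancel h7)
      have hX : x ^ (i + 1) ∈ Subgroup.normalizer (V : Set G) := Subgroup.pow_mem _ hxV _
      have h8 : ∀ a : Q, t (i + 1) a = (⟨x ^ (i + 1), hX⟩ : Subgroup.normalizer (V : Set G)) •
          ((⟨c a, hQV (c a).2⟩ : Subgroup.normalizer (V : Set G)) • y) := by
        intro a
        rw [smul_smul]
        have h9 : (⟨(x * a) ^ (i + 1), hg a (i + 1)⟩ : Subgroup.normalizer (V : Set G)) =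
            ⟨x ^ (i + 1), hX⟩ * ⟨c a, hQV (c a).2⟩ := by
          apply Subtype.ext
          change (x * a) ^ (i + 1) = x ^ (i + 1) * ((x ^ (i + 1))⁻¹ * (x * a) ^ (i + 1))
          group
        rw [← h9]
      rw [Finset.prod_congr rfl (fun a _ => h8 a), ← Finset.smul_prod',
        hc.prod_comp (fun a : Q => ((⟨a, hQV a.2⟩ : Subgroup.normalizer (V : Set G)) • y)),
        ← normMap_apply, hy1, smul_one]
    rw [Finset.prod_eq_one h5, one_mul] at h4
    have h11 : ∀ a : Q, t 0 a = y := by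
      intro a
      apply Subtype.ext
      change (x * a) ^ 0 * (y : G) * ((x * a) ^ 0)⁻¹ = y
      simp
    simp only [h11, Finset.prod_const, Finset.card_univ, ← Nat.card_eq_fintype_card] at h4
    have h12 : y ^ Nat.card V = 1 := pow_card_eq_one'
    have h13 := pow_gcd_eq_one.mpr ⟨h4, h12⟩
    rw [hcop.gcd_eq_one, pow_one] at h13
    rw [← hyw', h13]; rfl
  have hbot : ⁅V, Q⁆ = ⊥ := by
    rw [eq_bot_iff]; intro w hw; exact key w hw
  rw [Subgroup.commutator_comm] at hbot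
  exact Subgroup.commutator_eq_bot_iff_le_centralizer.mp hbot

theorem HK.exists_not_mem {p : ℕ} {H : Subgroup G} (h : HK p H) : ∃ x, x ∉ H := by
  by_contra hcon
  push Not at hcon
  exact h.2.1 (eq_top_iff.mpr fun g _ => hcon g)

theorem eq_one_of_pow [Finite G] {p : ℕ} (hp : p.Prime) {X : Subgroup G} {y : G} (hy : y ∈ X)
    (hyp : y ^ p = 1) (hcop : (Nat.card X).Coprime p) : y = 1 := by
  have h1 : orderOf y ∣ p := orderOf_dvd_of_pow_eq_one hyp
  have h2 : orderOf y ∣ Nat.card X := by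
    have := orderOf_dvd_natCard (⟨y, hy⟩ : ↥X)
    rwa [← Subgroup.orderOf_coe] at this
  have h3 : orderOf y = 1 := Nat.eq_one_of_dvd_coprimes hcop h2 h1
  exact orderOf_eq_one_iff.mp h3

/-- an element of `H` commuting with an element outside `H` has `p`-th power `1` -/
theorem HK.pow_of_commute {p : ℕ} {H : Subgroup G} (h : HK p H) {b y : G} (hb : b ∉ H) (hy : y ∈ H)
    (hc : Commute b y) : y ^ p = 1 := by
  have h1 : b * y ∉ H := fun hm => hb (by simpa using H.mul_mem hm (H.inv_mem hy))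
  have h2 := h.2.2 _ h1
  rwa [hc.mul_pow, h.2.2 b hb, one_mul] at h2

theorem nil_of_not_dvd [Finite G] {p : ℕ} (hp : p.Prime) {H : Subgroup G} (h : HK p H)
    (hd : ¬ p ∣ Nat.card H) : Group.IsNilpotent ↥H := by
  obtain ⟨x, hx⟩ := h.exists_not_mem
  haveI := h.1
  let φ : ↥H →* ↥H := (MulAut.conjNormal x).toMonoidHom
  have hφ1 : ∀ g : ↥H, ((φ g : ↥H) : G) = x * g * x⁻¹ := fun g => MulAut.conjNormal_apply x g
  have hφ : ∀ (k : ℕ) (g : ↥H), ((φ^[k] g : ↥H) : G) = x ^ k * g * (x ^ k)⁻¹ := by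
    intro k
    induction k with
    | zero => intro g; simp
    | succ k ih =>
      intro g
      rw [Function.iterate_succ_apply', hφ1, ih, pow_succ']
      group
  apply Cfsg.Agent.Lib.Helper1.thompson_fpf hp _ ↥H rfl φ
  constructor
  · intro g hg
    have h1 : x * g * x⁻¹ = g := by rw [← hφ1, hg]
    have hc : Commute x (g : G) := by
      have : x * g = g * x := by
        calc x * g = x * g * x⁻¹ * x := by group
          _ = g * x := by rw [h1]
      exact this
    have h2 := h.pow_of_commute hx g.2 hc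
    have hcop : (Nat.card H).Coprime p := ((Nat.Prime.coprime_iff_not_dvd hp).mpr hd).symm
    exact Subtype.ext (eq_one_of_pow hp g.2 h2 hcop)
  · intro g
    apply Subtype.ext
    rw [hφ, h.2.2 x hx]
    simp

open Cfsg.Agent.Lib.Helper3.CopGen in
theorem E_lemma [Finite G] {p : ℕ} (hp : p.Prime) {H : Subgroup G} (h : HK p H) {P X : Subgroup G}
    (hP : IsPGroup p ↥P) {x z : G} (hxP : x ∈ P) (hzP : z ∈ P) (hx : x ∉ H) (hz : z ∈ H)
    (hxz : Commute x z) (hXH : X ≤ H) (hXn : P ≤ Nz X) (hcop : (Nat.card X).Coprime p) :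
    X ≤ Subgroup.centralizer {z} := by
  haveI : Fact p.Prime := ⟨hp⟩
  have hcS : ∀ a ∈ ({x, z} : Set G), ∀ b ∈ ({x, z} : Set G), Commute a b := by
    rintro a (rfl | rfl) b (rfl | rfl)
    · exact Commute.refl _
    · exact hxz
    · exact hxz.symm
    · exact Commute.refl _
  have hcomm := closure_commute hcS
  have hEP : Subgroup.closure ({x, z} : Set G) ≤ P := by
    rw [Subgroup.closure_le]
    rintro a (rfl | rfl)
    · exact hxP
    · exact hzP
  have hEc : IsMulCommutative ↥(Subgroup.closure ({x, z} : Set G)) :=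
    ⟨⟨fun a b => Subtype.ext (hcomm a a.2 b b.2)⟩⟩
  have hxE : x ∈ Subgroup.closure ({x, z} : Set G) := Subgroup.subset_closure (by simp)
  have hzE : z ∈ Subgroup.closure ({x, z} : Set G) := Subgroup.subset_closure (by simp)
  have hcopE : (Nat.card ↥(Subgroup.closure ({x, z} : Set G))).Coprime (Nat.card X) := by
    obtain ⟨k, hk⟩ := IsPGroup.iff_card.mp (hP.to_le hEP)
    rw [hk]
    exact (Nat.Coprime.pow_right k hcop).symm
  have hgen := gen _ X hEc (hEP.trans hXn) hcopE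
  rw [← hgen]
  unfold Gen
  apply iSup₂_le
  rintro B ⟨hBE, a, haE, hBa⟩ y ⟨hyX, hyC⟩
  rw [Subgroup.mem_centralizer_singleton_iff]
  by_cases hBH : B ≤ H
  · have haH : a ∉ H := by
      intro haH
      apply hx
      have : Subgroup.closure ({x, z} : Set G) ≤ H := by
        rw [← hBa]; exact sup_le hBH (Subgroup.zpowers_le.mpr haH)
      exact this hxE
    have haN : a ∈ Nz B := by
      apply Subgroup.centralizer_le_normalizer
      rw [Subgroup.mem_centralizer_iff]
      intro b hb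
      exact hcomm b (hBE hb) a haE
    have hzB : z ∈ B := dedekind hp haH (h.2.2 a haH) hBH haN ⟨by rw [hBa]; exact hzE, hz⟩
    exact (Subgroup.mem_centralizer_iff.mp hyC z hzB).symm
  · obtain ⟨b, hb, hbH⟩ := SetLike.not_le_iff_exists.mp hBH
    have hc : Commute b y := Subgroup.mem_centralizer_iff.mp hyC b hb
    have h1 := eq_one_of_pow hp hyX (h.pow_of_commute hbH (hXH hyX) hc) hcop
    rw [h1]; simp

theorem caseA [Finite G] {p : ℕ} (hp : p.Prime) {H : Subgroup G} (h : HK p H)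
    (IHq : ∀ (Z : Subgroup G) [Z.Normal], Z ≠ ⊥ → Z ≤ H →
      Group.IsNilpotent ↥(H.map (QuotientGroup.mk' Z)))
    (Z : Subgroup G) [hZn : Z.Normal] [IsMulCommutative Z] (hZp : IsPGroup p ↥Z) (hZ : Z ≠ ⊥)
    (hZH : Z ≤ H) : Group.IsNilpotent ↥H := by
  haveI : Fact p.Prime := ⟨hp⟩
  apply nil_of_syl
  intro r _ S hS
  have h1 : H ≤ Nz (S ⊔ Z) := le_Nz_sup_of_quot hS hZH (IHq Z hZ hZH)
  by_cases hr : r = p
  · subst hr
    obtain ⟨k, hk, hk2⟩ := hS.exists_le_cj hZp hZH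
    have h2 : Z ≤ S := by
      have h3 : cj k⁻¹ Z ≤ S := by rw [cj_le_iff, inv_inv]; exact hk2
      rwa [cj_normal] at h3
    rwa [sup_eq_left.mpr h2] at h1
  · obtain ⟨x0, hx0⟩ := h.exists_not_mem
    obtain ⟨m, hm, n, hn, e⟩ := hS.frattini (K := ⊤) (top_le_Nz h.1) (Subgroup.mem_top x0)
    have hnH : n ∉ H := fun hnH => hx0 (e ▸ H.mul_mem hm hnH)
    have hna : ∀ a ∈ S, n * a ∉ H := fun a ha hmem =>
      hnH (by simpa using H.mul_mem hmem (H.inv_mem (hS.le ha)))
    have hc : S ≤ Subgroup.centralizer (Z : Set G) := by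
      apply norm_central hp Z S (le_Nz_of_normal hZn S)
        (le_Nz_of_normal hZn ⊤ (Subgroup.mem_top n)) hn
      · intro a ha
        exact h.2.2 _ (hna a ha)
      · intro a ha v hv
        apply h.2.2
        intro hmem
        apply hna a ha
        have := H.mul_mem (H.inv_mem (hZH hv)) hmem
        simpa using this
      · exact IsPGroup.coprime_card_of_ne r p hr S Z hS.isPGroup hZp
    have h2 : S ⊔ Z ≤ Nz S := sup_le Subgroup.le_normalizer
      ((Subgroup.le_centralizer_iff.mp hc).trans (Subgroup.centralizer_le_normalizer _))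
    exact h1.trans (syl_Nz_le (hS.of_le le_sup_left (sup_le hS.le hZH)) h2)

theorem caseA' [Finite G] {p : ℕ} (hp : p.Prime) {H : Subgroup G} (h : HK p H)
    (IHq : ∀ (Z : Subgroup G) [Z.Normal], Z ≠ ⊥ → Z ≤ H →
      Group.IsNilpotent ↥(H.map (QuotientGroup.mk' Z)))
    (Y : Subgroup G) (hYn : Y.Normal) (hYp : IsPGroup p ↥Y) (hY : Y ≠ ⊥)
    (hYH : Y ≤ H) : Group.IsNilpotent ↥H := by
  haveI : Fact p.Prime := ⟨hp⟩
  have hnt : Nontrivial ↥Y := (Subgroup.nontrivial_iff_ne_bot Y).mpr hY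
  have hcnt : Nontrivial (Subgroup.center ↥Y) := hYp.center_nontrivial
  haveI hZn : ((Subgroup.center ↥Y).map Y.subtype).Normal :=
    normal_of_top_le_Nz ((top_le_Nz hYn).trans (Nz_le_Nz_map_char (K := Y) (Subgroup.center ↥Y)))
  apply caseA hp h IHq ((Subgroup.center ↥Y).map Y.subtype)
    (hYp.to_le (Subgroup.map_subtype_le _)) _ ((Subgroup.map_subtype_le _).trans hYH)
  rw [Ne, Subgroup.map_eq_bot_iff_of_injective _ Y.subtype_injective]
  exact (Subgroup.nontrivial_iff_ne_bot _).mp hcnt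

theorem caseB [Finite G] {p q : ℕ} (hp : p.Prime) (hq : q.Prime) (hqp : q ≠ p) {H : Subgroup G}
    (h : HK p H)
    (IHs : ∀ L : Subgroup G, L ≠ ⊤ → ¬ L ≤ H → Group.IsNilpotent ↥(L ⊓ H))
    (IHq : ∀ (Z : Subgroup G) [Z.Normal], Z ≠ ⊥ → Z ≤ H →
      Group.IsNilpotent ↥(H.map (QuotientGroup.mk' Z)))
    (hd : p ∣ Nat.card H)
    (X : Subgroup G) (hXn : X.Normal) (hXq : IsPGroup q ↥X) (hX : X ≠ ⊥) (hXH : X ≤ H) :
    Group.IsNilpotent ↥H := by
  haveI : Fact p.Prime := ⟨hp⟩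
  haveI : Fact q.Prime := ⟨hq⟩
  haveI := h.1
  obtain ⟨P⟩ : Nonempty (Sylow p G) := inferInstance
  have hP : Syl p (P : Subgroup G) ⊤ := syl_of_sylow P
  have hP1 : Syl p ((P : Subgroup G) ⊓ H) H := hP.inf_normal le_top (top_le_Nz h.1)
  obtain ⟨x0, hx0⟩ := h.exists_not_mem
  have hx01 : x0 ≠ 1 := fun e => hx0 (e ▸ H.one_mem)
  have hz0 : IsPGroup p (Subgroup.zpowers x0) :=
    Cfsg.Agent.Lib.Helper9.SylowIn.isPGroup_zpowers (orderOf_eq_prime (h.2.2 x0 hx0) hx01)
  obtain ⟨k, -, hk⟩ := hP.exists_le_cj hz0 le_top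
  have hxP : k⁻¹ * x0 * k ∈ (P : Subgroup G) := mem_cj.mp (hk (Subgroup.mem_zpowers x0))
  have hxH : k⁻¹ * x0 * k ∉ H := by
    intro hm
    apply hx0
    have := h.1.conj_mem _ hm k
    simpa [mul_assoc] using this
  have hP1ne : (P : Subgroup G) ⊓ H ≠ ⊥ := by
    intro hbot
    apply hP1.2.2
    rw [hbot, Subgroup.relIndex_bot_left]
    exact hd
  have hPN : (P : Subgroup G) ≤ Nz ((P : Subgroup G) ⊓ H) := by
    intro g hg
    apply cj_eq_self_iff.mp
    rw [cj_inf, cj_eq_self_of_mem hg, cj_normal]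
  by_cases hL : (P : Subgroup G) ⊔ X = ⊤
  · obtain ⟨z, hz, hz1, hzc⟩ := Cfsg.Agent.Lib.Helper9.PFix.exists_fixed hP1.isPGroup P.2 hPN hP1ne
    have hcomm : ∀ t ∈ (P : Subgroup G), t * z = z * t := by
      intro t ht
      calc t * z = t * z * t⁻¹ * t := by group
        _ = z * t := by rw [hzc t ht]
    have hcop : (Nat.card X).Coprime p := by
      obtain ⟨j, hj⟩ := IsPGroup.iff_card.mp hXq
      rw [hj]
      exact Nat.Coprime.pow_left j ((Nat.coprime_primes hq hp).mpr hqp)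
    have h1 : X ≤ Subgroup.centralizer {z} :=
      E_lemma hp h P.2 hxP hz.1 hxH hz.2 (hcomm _ hxP) hXH (le_Nz_of_normal hXn _) hcop
    have h2 : (P : Subgroup G) ≤ Subgroup.centralizer {z} := by
      intro t ht
      rw [Subgroup.mem_centralizer_singleton_iff]
      exact hcomm t ht
    have h3 : ∀ g : G, g * z = z * g := by
      intro g
      have : g ∈ Subgroup.centralizer {z} := (sup_le h2 h1) (hL ▸ Subgroup.mem_top g)
      exact Subgroup.mem_centralizer_singleton_iff.mp this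
    have hle : Subgroup.zpowers z ≤ Subgroup.center G :=
      Subgroup.zpowers_le.mpr (Subgroup.mem_center_iff.mpr h3)
    have hYn : (Subgroup.zpowers z).Normal := by
      constructor
      intro n hn g
      have := Subgroup.mem_center_iff.mp (hle hn) g
      rw [this, mul_inv_cancel_right]
      exact hn
    apply caseA' hp h IHq (Subgroup.zpowers z) hYn (P.2.to_le (Subgroup.zpowers_le.mpr hz.1)) _
      (Subgroup.zpowers_le.mpr hz.2)
    rw [Ne, Subgroup.zpowers_eq_bot]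
    exact hz1
  · have hLH : ¬ (P : Subgroup G) ⊔ X ≤ H := fun hle => hxH (hle (Subgroup.mem_sup_left hxP))
    have hnil := IHs _ hL hLH
    have hnil2 : Group.IsNilpotent ↥(((P : Subgroup G) ⊓ H) ⊔ X : Subgroup G) :=
      nilpotent_of_le (le_inf (sup_le_sup_right inf_le_left X) (sup_le inf_le_right hXH)) hnil
    have h1 : Nz (((P : Subgroup G) ⊓ H) ⊔ X) ≤ Nz ((P : Subgroup G) ⊓ H) :=
      syl_Nz_le_of_nil (hP1.of_le le_sup_left (sup_le inf_le_right hXH)) hnil2
    have h2 : H ≤ Nz (((P : Subgroup G) ⊓ H) ⊔ X) := le_Nz_sup_of_quot hP1 hXH (IHq X hX hXH)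
    have h3 : Nz H ≤ Nz ((P : Subgroup G) ⊓ H) := syl_Nz_le hP1 (h2.trans h1)
    exact caseA' hp h IHq _ (normal_of_top_le_Nz ((top_le_Nz h.1).trans h3)) hP1.isPGroup hP1ne
      inf_le_right

open Cfsg.Agent.Lib.Helper1 Cfsg.Agent.Lib.Helper3.PStab Cfsg.Agent.Lib.Helper3.PLocal in
theorem caseC [Finite G] {p : ℕ} (hp : p.Prime) {H : Subgroup G} (h : HK p H)
    (IHs : ∀ L : Subgroup G, L ≠ ⊤ → ¬ L ≤ H → Group.IsNilpotent ↥(L ⊓ H))
    (hno : ∀ r : ℕ, r.Prime → ∀ Y : Subgroup G, Y.Normal → IsPGroup r ↥Y → Y ≤ H → Y = ⊥) :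
    Group.IsNilpotent ↥H := by
  by_cases h2 : IsPGroup 2 ↥H
  · haveI : Fact (Nat.Prime 2) := ⟨Nat.prime_two⟩
    exact h2.isNilpotent
  obtain ⟨q, hq, hqH, hq2⟩ : ∃ q : ℕ, q.Prime ∧ q ∣ Nat.card H ∧ q ≠ 2 := by
    by_contra hcon
    push Not at hcon
    apply h2
    have h3 : Nat.card H = 2 ^ (Nat.card H).primeFactorsList.length :=
      Nat.eq_prime_pow_of_unique_prime_dvd Nat.card_pos.ne' (fun {d} hd hdG => hcon d hd hdG)
    exact IsPGroup.of_card h3
  haveI := Fact.mk hq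
  obtain ⟨P⟩ : Nonempty (Sylow q ↥H) := inferInstance
  have hS : Syl q ((P : Subgroup ↥H).map H.subtype) H := syl_of_sylow' P
  have hPne : (P : Subgroup ↥H) ≠ ⊥ := by
    intro hbot
    have h3 := P.card_eq_multiplicity
    rw [hbot, Subgroup.card_bot] at h3
    have h4 : (Nat.card H).factorization q ≠ 0 :=
      (hq.factorization_pos_of_dvd Nat.card_pos.ne' hqH).ne'
    exact (Nat.one_lt_pow h4 hq.one_lt).ne h3
  have hWne : XX Pab (P : Subgroup ↥H) ≠ ⊥ := XX_ne_bot P.isPGroup' hPne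
  have hWmap : XX Pab ((P : Subgroup ↥H).map H.subtype) = (XX Pab (P : Subgroup ↥H)).map H.subtype :=
    XX_map_of_injOn H.subtype (H.subtype_injective.comp Subtype.val_injective)
  have hWS : XX Pab ((P : Subgroup ↥H).map H.subtype) ≤ (P : Subgroup ↥H).map H.subtype :=
    XX_le Pab_bot _
  have hNW : Nz ((P : Subgroup ↥H).map H.subtype) ≤ Nz (XX Pab ((P : Subgroup ↥H).map H.subtype)) := by
    intro g hg
    apply cj_eq_self_iff.mp
    have h3 := XX_map_of_injOn (MulAut.conj g).toMonoidHom (D := (P : Subgroup ↥H).map H.subtype)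
      ((MulAut.conj g).injective.comp Subtype.val_injective)
    have h4 : ((P : Subgroup ↥H).map H.subtype).map (MulAut.conj g).toMonoidHom =
        (P : Subgroup ↥H).map H.subtype := cj_eq_self_iff.mpr hg
    rw [h4] at h3
    exact h3.symm
  have hWtop : Nz (XX Pab ((P : Subgroup ↥H).map H.subtype)) ≠ ⊤ := by
    intro htop
    have h3 := hno q hq _ (Subgroup.normalizer_eq_top_iff.mp htop) (hS.isPGroup.to_le hWS)
      (hWS.trans hS.le)
    rw [hWmap, Subgroup.map_eq_bot_iff_of_injective _ H.subtype_injective] at h3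
    exact hWne h3
  obtain ⟨x0, hx0⟩ := h.exists_not_mem
  obtain ⟨m, hm, x, hxS, e⟩ := hS.frattini (K := ⊤) (top_le_Nz h.1) (Subgroup.mem_top x0)
  have hx : x ∉ H := fun hnH => hx0 (e ▸ H.mul_mem hm hnH)
  have hnil := IHs _ hWtop (fun hle => hx (hle (hNW hxS)))
  have hnilN : Group.IsNilpotent
      ↥(Subgroup.normalizer ((XX Pab (P : Subgroup ↥H) : Subgroup ↥H) : Set ↥H)) := by
    rw [← nilpotent_map_iff H.subtype_injective]
    apply nilpotent_of_le _ hnil
    rintro _ ⟨y, hy, rfl⟩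
    refine ⟨?_, y.2⟩
    have h3 := Subgroup.le_normalizer_map H.subtype (H := XX Pab (P : Subgroup ↥H)) ⟨y, hy, rfl⟩
    rwa [← hWmap] at h3
  have h4 := glauberman_thompson_XX hq2 P (pn_of_nilpotent hnilN)
  have h5 := hasNormalPComplement_iff.mp h4
  have hKc : (Nat.card ↥(Ores q H)).Coprime q := by
    rw [← map_pResidual, Subgroup.card_map_of_injective H.subtype_injective]
    exact h5
  have hKH : Ores q H ≠ H := by
    intro e2
    rw [e2] at hKc
    exact hq.one_lt.ne' (Nat.Coprime.eq_one_of_dvd hKc.symm hqH)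
  have hKn : (Ores q H).Normal := normal_of_top_le_Nz ((top_le_Nz h.1).trans (Nz_le_Nz_Ores q H))
  have hL' : Ores q H ⊔ Subgroup.zpowers x ≠ ⊤ := by
    intro htop
    apply hKH
    apply le_antisymm (Ores_le q H)
    have h6 := dedekind hp hx (h.2.2 x hx) (Ores_le q H) (le_Nz_of_normal hKn ⊤ (Subgroup.mem_top x))
    rwa [htop, top_inf_eq] at h6
  have hnilK : Group.IsNilpotent ↥(Ores q H) :=
    nilpotent_of_le (le_inf le_sup_left (Ores_le q H))
      (IHs _ hL' (fun hle => hx (hle (Subgroup.mem_sup_right (Subgroup.mem_zpowers x)))))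
  have hKbot : Ores q H = ⊥ := by
    by_contra hne
    have hc1 : Nat.card ↥(Ores q H) ≠ 1 := fun hc => hne (Subgroup.card_eq_one.mp hc)
    obtain ⟨r, hr, hrK⟩ := Nat.exists_prime_and_dvd hc1
    haveI := Fact.mk hr
    obtain ⟨O, hOK, hON, hOp, hOc⟩ := exists_sylow_of_nilpotent r (Ores q H) hnilK
    have hObot := hno r hr O (normal_of_top_le_Nz ((top_le_Nz hKn).trans hON)) hOp
      (hOK.trans (Ores_le q H))
    rw [hObot, Subgroup.card_bot] at hOc
    have h7 : (Nat.card ↥(Ores q H)).factorization r ≠ 0 :=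
      (hr.factorization_pos_of_dvd Nat.card_pos.ne' hrK).ne'
    exact (Nat.one_lt_pow h7 hr.one_lt).ne hOc
  have hfin : IsPGroup q ↥H := by
    intro a
    obtain ⟨k, hk⟩ := exists_pow_mem_Ores q a.2
    rw [hKbot, Subgroup.mem_bot] at hk
    exact ⟨k, Subtype.ext hk⟩
  exact hfin.isNilpotent

open Cfsg.Agent.Lib.Helper1 in
/-- **Kegel's theorem**: if all elements outside the proper normal subgroup `H` have `p`-th power
`1`, then `H` is nilpotent. -/
theorem kegel {p : ℕ} (hp : p.Prime) : ∀ (n : ℕ) (G : Type u) [Group G] [Finite G], Nat.card G = n →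
    ∀ H : Subgroup G, HK p H → Group.IsNilpotent ↥H := by
  intro n
  induction n using Nat.strong_induction_on with
  | _ n ih =>
    intro G _ _ hn H h
    have IHs : ∀ L : Subgroup G, L ≠ ⊤ → ¬ L ≤ H → Group.IsNilpotent ↥(L ⊓ H) := by
      intro L hL hLH
      have h1 : HK p (H.subgroupOf L) := by
        refine ⟨?_, ?_, ?_⟩
        · haveI := h.1
          infer_instance
        · rw [Ne, Subgroup.subgroupOf_eq_top]
          exact hLH
        · intro g hg
          apply Subtype.ext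
          exact h.2.2 g (fun hm => hg (Subgroup.mem_subgroupOf.mpr hm))
      have h2 := ih _ (hn ▸ card_sub_lt L hL) ↥L rfl _ h1
      have h3 := nilpotent_map L.subtype h2
      rwa [Subgroup.subgroupOf_map_subtype, inf_comm] at h3
    have IHq : ∀ (Z : Subgroup G) [Z.Normal], Z ≠ ⊥ → Z ≤ H →
        Group.IsNilpotent ↥(H.map (QuotientGroup.mk' Z)) := by
      intro Z _ hZ hZH
      apply ih _ (hn ▸ card_quot_lt Z hZ) (G ⧸ Z) rfl
      refine ⟨h.1.map _ (QuotientGroup.mk'_surjective Z), ?_, ?_⟩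
      · intro htop
        apply h.2.1
        have h3 := congrArg (Subgroup.comap (QuotientGroup.mk' Z)) htop
        rw [Subgroup.comap_map_eq, QuotientGroup.ker_mk', sup_eq_left.mpr hZH,
          Subgroup.comap_top] at h3
        exact h3
      · intro g hg
        obtain ⟨g, rfl⟩ := QuotientGroup.mk'_surjective Z g
        rw [← map_pow, h.2.2 g (fun hm => hg ⟨g, hm, rfl⟩), map_one]
    by_cases hd : p ∣ Nat.card H
    swap
    · exact nil_of_not_dvd hp h hd
    by_cases hex : ∃ r : ℕ, r.Prime ∧ ∃ Y : Subgroup G, Y.Normal ∧ IsPGroup r ↥Y ∧ Y ≤ H ∧ Y ≠ ⊥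
    · obtain ⟨r, hr, Y, hYn, hYr, hYH, hY⟩ := hex
      by_cases hrp : r = p
      · subst hrp
        exact caseA' hp h IHq Y hYn hYr hY hYH
      · exact caseB hp hr hrp h IHs IHq hd Y hYn hYr hY hYH
    · push Not at hex
      exact caseC hp h IHs (fun r hr Y hYn hYr hYH => hex r hr Y hYn hYr hYH)

end Cfsg.Agent.Lib.Helper9.Kegel
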