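import Cfsg.Prelude.Def_Transfer
import Mathlib

set_option autoImplicit false

namespace Cfsg.Agent.Lib.Helper9.NPC

/-- a normal `p'`-subgroup of `p`-power index is a normal `p`-complement -/
theorem npc_of_normal {X : Type*} [Group X] [Finite X] {p : ℕ} [hp : Fact p.Prime]
    (N : Subgroup X) (hN : N.Normal) (h1 : (Nat.card N).Coprime p) (h2 : ∃ k, N.index = p ^ k) :
    Cfsg.HasNormalPComplement p X := by
  obtain ⟨P⟩ : Nonempty (Sylow p X) := inferInstance
  obtain ⟨k, hk⟩ := h2
  refine ⟨P, N, hN, ?_⟩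
  have hc : Nat.card (P : Subgroup X) = p ^ k := by
    rw [P.card_eq_multiplicity, ← N.card_mul_index, hk,
      Nat.factorization_mul Nat.card_pos.ne' (pow_ne_zero _ hp.out.ne_zero), Finsupp.add_apply,
      Nat.factorization_eq_zero_of_not_dvd
        (fun h => hp.out.one_lt.ne' (Nat.Coprime.eq_one_of_dvd h1.symm h)),
      zero_add, hp.out.factorization_pow, Finsupp.single_eq_same]
  apply Subgroup.isComplement'_of_coprime
  · rw [hc, ← hk, N.card_mul_index]
  · rw [hc]; exact Nat.Coprime.pow_right k h1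

theorem npc_exists {X : Type*} [Group X] [Finite X] {p : ℕ} [hp : Fact p.Prime]
    (h : Cfsg.HasNormalPComplement p X) :
    ∃ N : Subgroup X, N.Normal ∧ (Nat.card N).Coprime p ∧ ∃ k, N.index = p ^ k := by
  obtain ⟨P, N, hN, hc⟩ := h
  have h1 := hc.card_mul_card
  have hidx : N.index = Nat.card (P : Subgroup X) :=
    Nat.eq_of_mul_eq_mul_left Nat.card_pos (N.card_mul_index.trans h1.symm)
  have hidx' : (P : Subgroup X).index = Nat.card N := by
    have := (P : Subgroup X).card_mul_index
    rw [← h1, mul_comm] at this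
    exact Nat.eq_of_mul_eq_mul_right Nat.card_pos this
  refine ⟨N, hN, ?_, ?_⟩
  · rw [← hidx']
    exact ((Nat.Prime.coprime_iff_not_dvd hp.out).2 P.not_dvd_index).symm
  · rw [hidx]
    exact IsPGroup.iff_card.1 P.2

/-- normal `p`-complements of a subgroup, expressed inside the ambient group -/
theorem npc_sub_iff {G : Type*} [Group G] [Finite G] {p : ℕ} [hp : Fact p.Prime] (A : Subgroup G) :
    Cfsg.HasNormalPComplement p ↥A ↔ ∃ K : Subgroup G, K ≤ A ∧
      A ≤ Subgroup.normalizer (K : Set G) ∧ (Nat.card K).Coprime p ∧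
      ∃ k, Nat.card A = Nat.card K * p ^ k := by
  constructor
  · intro h
    obtain ⟨N, hN, h1, k, hk⟩ := npc_exists h
    refine ⟨N.map A.subtype, Subgroup.map_subtype_le N, ?_, ?_, k, ?_⟩
    · intro a ha
      rw [Subgroup.mem_normalizer_iff]
      intro x
      constructor
      · rintro ⟨y, hy, rfl⟩
        exact ⟨⟨a, ha⟩ * y * ⟨a, ha⟩⁻¹, hN.conj_mem y hy _, rfl⟩
      · rintro ⟨y, hy, hyx⟩
        refine ⟨⟨a, ha⟩⁻¹ * y * ⟨a, ha⟩, ?_, ?_⟩
        · have := hN.conj_mem y hy ⟨a, ha⟩⁻¹
          simpa using this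
        · show a⁻¹ * (y : G) * a = x
          have : (y : G) = a * x * a⁻¹ := hyx
          rw [this]; group
    · rw [Subgroup.card_map_of_injective A.subtype_injective]; exact h1
    · rw [Subgroup.card_map_of_injective A.subtype_injective, ← hk, N.card_mul_index]
  · rintro ⟨K, hKA, hn, h1, k, hk⟩
    have hcard : Nat.card (K.subgroupOf A) = Nat.card K :=
      Nat.card_congr (Subgroup.subgroupOfEquivOfLe hKA).toEquiv
    refine npc_of_normal (K.subgroupOf A) (Subgroup.normal_subgroupOf_of_le_normalizer hn)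
      (by rw [hcard]; exact h1) ⟨k, ?_⟩
    have := (K.subgroupOf A).card_mul_index
    rw [hcard, hk] at this
    exact Nat.eq_of_mul_eq_mul_left Nat.card_pos this

end Cfsg.Agent.Lib.Helper9.NPC
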