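import Mathlib
import Cfsg.Agent.Lib.Helper3.PStab2
import Cfsg.Agent.Lib.Helper9.HHSolv
import Cfsg.Agent.Lib.Helper6.Ores

set_option autoImplicit false
set_option linter.unusedSectionVars false
open scoped commutatorElement

/-! Consequences of `p`-stability in solvable groups with abelian Sylow 2-subgroups. -/

namespace Cfsg.Agent.Lib.Helper9.OddStab

open Cfsg.Agent.Lib.Helper1 Cfsg.Agent.Lib.Helper3.PStab Cfsg.Agent.Lib.Helper9.HHSolv
open Cfsg.Agent.Lib.Helper6.Subn Cfsg.Agent.Lib.Helper6.FStar Cfsg.Agent.Lib.Helper6.Ores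

universe u
variable {G : Type u} [Group G] [Finite G] {p : ℕ} [hp : Fact p.Prime]

theorem quad_of_normalizes {P B : Subgroup G} (hB : IsMulCommutative B)
    (hPB : P ≤ Subgroup.normalizer (B : Set G)) {b : G} (hb : b ∈ B) :
    ⁅⁅P, Subgroup.zpowers b⁆, Subgroup.zpowers b⁆ = ⊥ := by
  have hz : Subgroup.zpowers b ≤ B := Subgroup.zpowers_le.mpr hb
  have h1 : ⁅P, Subgroup.zpowers b⁆ ≤ B := by
    rw [Subgroup.commutator_le]
    intro x hx y hy
    rw [commutatorElement_def]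
    exact B.mul_mem ((Subgroup.mem_normalizer_iff.mp (hPB hx) y).mp (hz hy)) (B.inv_mem (hz hy))
  rw [eq_bot_iff]
  refine (Subgroup.commutator_mono h1 hz).trans ?_
  rw [le_bot_iff, Subgroup.commutator_eq_bot_iff_le_centralizer]
  intro x hx
  rw [Subgroup.mem_centralizer_iff]
  intro y hy
  exact congrArg Subtype.val (hB.is_comm.comm ⟨y, hy⟩ ⟨x, hx⟩)

/-- if `O_{p'}(G) = 1`, `G` solvable and `O_p(G) ∩ C(P) ≤ P` then `C(P)` is a `p`-group -/
theorem centralizer_pGroup (hs : Group.IsSolvable G) {P : Subgroup G} [P.Normal]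
    (hO : Cfsg.pPrimeCore p G = ⊥) (hle : Cfsg.pCore p G ⊓ Subgroup.centralizer (P : Set G) ≤ P) :
    IsPGroup p (Subgroup.centralizer (P : Set G)) := by
  set C := Subgroup.centralizer (P : Set G) with hC
  have hCn : C.Normal := inferInstance
  have hsn : SN C ⊤ := SN.of_normal_top hCn
  have h1 : Cfsg.pPrimeCore p ↥C = ⊥ := by
    rw [← Subgroup.map_eq_bot_iff_of_injective _ C.subtype_injective, map_pPrimeCore, eq_bot_iff,
      ← hO, pPrimeCore_eq]
    exact Op'_sn hsn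
  have h2 := hh_solv (q := p) (X := ↥C) inferInstance h1
  have h3 : (Cfsg.pCore p ↥C).map C.subtype ≤ P := by
    rw [map_pCore]
    refine le_trans (le_inf ?_ (Op_le p C)) hle
    rw [pCore_eq]
    exact Op_sn hsn
  have h4 : (⊤ : Subgroup ↥C) ≤ Cfsg.pCore p ↥C := by
    refine le_trans ?_ h2
    intro c _
    rw [Subgroup.mem_centralizer_iff]
    intro y hy
    have hyP : (y : G) ∈ P := h3 ⟨y, hy, rfl⟩
    exact Subtype.ext (Subgroup.mem_centralizer_iff.mp c.2 y hyP)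
  have h5 := pCore_isPGroup p (G := ↥C)
  rw [top_le_iff.mp h4] at h5
  exact h5.of_equiv Subgroup.topEquiv

theorem stab_family (hs : Group.IsSolvable G) (hG : Ab2 G) (hp2 : p ≠ 2) (P : Subgroup G) [P.Normal]
    (hP : IsPGroup p P) (S : Set (Subgroup G))
    (hS : ∀ B ∈ S, IsMulCommutative B ∧ IsPGroup p B ∧ P ≤ Subgroup.normalizer (B : Set G)) :
    (sSup S).map (QuotientGroup.mk' (Subgroup.centralizer (P : Set G))) ≤
        Cfsg.pCore p (G ⧸ Subgroup.centralizer (P : Set G)) ∧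
      (Cfsg.pPrimeCore p G = ⊥ → Cfsg.pCore p G ⊓ Subgroup.centralizer (P : Set G) ≤ P →
        sSup S ≤ Cfsg.pCore p G) := by
  have ha : (sSup S).map (QuotientGroup.mk' (Subgroup.centralizer (P : Set G))) ≤
        Cfsg.pCore p (G ⧸ Subgroup.centralizer (P : Set G)) := by
    rw [Subgroup.map_le_iff_le_comap, sSup_le_iff]
    intro B hB b hb
    exact pStableOn_of_ab2 hp2 hG P hP b (quad_of_normalizes (hS B hB).1 (hS B hB).2.2 hb)
  refine ⟨ha, ?_⟩
  intro hO hle
  have hCp := centralizer_pGroup hs hO hle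
  rw [Subgroup.map_le_iff_le_comap] at ha
  refine ha.trans ?_
  apply le_pCore ((Cfsg.Agent.Lib.Helper1.pCore_normal p).comap _)
  rintro ⟨x, hx⟩
  obtain ⟨k, hk⟩ := pCore_isPGroup p (G := G ⧸ Subgroup.centralizer (P : Set G)) ⟨_, hx⟩
  have hk' : (QuotientGroup.mk' (Subgroup.centralizer (P : Set G)) x) ^ p ^ k = 1 :=
    congrArg Subtype.val hk
  rw [← map_pow, ← MonoidHom.mem_ker, QuotientGroup.ker_mk'] at hk'
  obtain ⟨j, hj⟩ := hCp ⟨_, hk'⟩
  have hj' : (x ^ p ^ k) ^ p ^ j = 1 := congrArg Subtype.val hj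
  refine ⟨k + j, Subtype.ext ?_⟩
  rw [pow_add, pow_mul]
  exact hj'

end Cfsg.Agent.Lib.Helper9.OddStab
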