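import Cfsg.Agent.Lib.Helper3.PLen
import Cfsg.Agent.Lib.Helper9.SylCard

set_option autoImplicit false
open scoped commutatorElement
open Pointwise

namespace Cfsg.Agent.Lib.Helper9.PLen1

open Cfsg.Agent.Lib.Helper1 Cfsg.Agent.Lib.Helper9.PSolv Cfsg.Agent.Lib.Helper9.SylCard
  Cfsg.Agent.Lib.Helper3.PLocal

universe u

variable {G : Type u} [Group G]

/-- usable form of `p`-length at most one -/
theorem struct [Finite G] {p : ℕ} [hp : Fact p.Prime] (h : Cfsg.PLengthLE p 1 G) :
    ∃ K M : Subgroup G, K.Normal ∧ M.Normal ∧ K ≤ M ∧ (Nat.card K).Coprime p ∧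
      (∃ m : ℕ, K.relIndex M = p ^ m) ∧ M.index.Coprime p := by
  have h3 : (Cfsg.upperPSeries p G 3).1 = ⊤ := h
  refine ⟨(Cfsg.upperPSeries p G 1).1, (Cfsg.upperPSeries p G 2).1, inferInstance, inferInstance,
    ups_mono_succ p 1, ?_, ?_, ?_⟩
  · have e1 := ups_even (G := G) p 0 (by simp)
    have e2 := card_map_mk' (Cfsg.upperPSeries p G 0).1 (Cfsg.upperPSeries p G (0 + 1)).1
    rw [e1, Subgroup.map_comap_eq_self_of_surjective (QuotientGroup.mk'_surjective _)] at e2
    rw [← e1] at e2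
    have e3 : (Cfsg.upperPSeries p G 0).1.relIndex (Cfsg.upperPSeries p G (0 + 1)).1 =
        Nat.card (Cfsg.upperPSeries p G (0 + 1)).1 := Subgroup.relIndex_bot_left _
    rw [e3] at e2
    have e4 : Nat.card (Cfsg.upperPSeries p G 1).1 = Nat.card (Cfsg.upperPSeries p G (0+1)).1 := rfl
    rw [e4, ← e2]
    exact pPrimeCore_coprime p
  · have e1 := ups_odd (G := G) p 1 (by simp)
    have e2 := card_map_mk' (Cfsg.upperPSeries p G 1).1 (Cfsg.upperPSeries p G (1 + 1)).1
    rw [e1, Subgroup.map_comap_eq_self_of_surjective (QuotientGroup.mk'_surjective _), ← e1] at e2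
    obtain ⟨m, hm⟩ := IsPGroup.iff_card.1 (pCore_isPGroup (G := G ⧸ (Cfsg.upperPSeries p G 1).1) p)
    exact ⟨m, by rw [← hm, e2]⟩
  · have e1 := ups_even (G := G) p 2 (by simp)
    have e2 : (Cfsg.upperPSeries p G (2 + 1)).1 = ⊤ := h3
    rw [e2] at e1
    have e3 : Cfsg.pPrimeCore p (G ⧸ (Cfsg.upperPSeries p G 2).1) = ⊤ := by
      have := congrArg (Subgroup.map (QuotientGroup.mk' (Cfsg.upperPSeries p G 2).1)) e1
      rw [Subgroup.map_comap_eq_self_of_surjective (QuotientGroup.mk'_surjective _),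
        Subgroup.map_top_of_surjective _ (QuotientGroup.mk'_surjective _)] at this
      exact this.symm
    have e4 := pPrimeCore_coprime (G := G ⧸ (Cfsg.upperPSeries p G 2).1) p
    rw [e3, Subgroup.card_top] at e4
    exact e4

/-- with `K` the normal `p'`-subgroup of the structure, any two Sylow subgroups are `K`-conjugate -/
theorem sylow_conj [Finite G] {p : ℕ} [hp : Fact p.Prime] {K M : Subgroup G} [hK : K.Normal]
    [hM : M.Normal] (hKM : K ≤ M) (hKc : (Nat.card K).Coprime p)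
    (hp1 : ∃ m : ℕ, K.relIndex M = p ^ m) (hp2 : M.index.Coprime p) (S T : Sylow p G) :
    ∃ k ∈ K, MulAut.conj k • (S : Subgroup G) = T := by
  have hle : ∀ R : Sylow p G, (R : Subgroup G) ≤ M := fun R =>
    le_of_pgroup_of_coprime (N := M) (M := ⊤) le_top R.2 (by rwa [Subgroup.relIndex_top_right])
  have hfac : ∀ R : Sylow p G, Nat.card (R : Subgroup G) = p ^ (Nat.card M).factorization p := by
    intro R
    rw [fac_eq_of_sylow_le R (hle R)]
    exact R.card_eq_multiplicity
  obtain ⟨l, hl, hc⟩ := sylow_conj_in M (S : Subgroup G) (T : Subgroup G) (hle S) (hle T) (hfac S)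
    (hfac T)
  -- `M = K ⊔ S`
  have hsup : K ⊔ (S : Subgroup G) = M := by
    apply Subgroup.eq_of_le_of_card_ge (sup_le hKM (hle S))
    have e1 := card_sup_mul_card_inf' (S : Subgroup G) K
      (by rw [Subgroup.normalizer_eq_top]; exact le_top)
    have hdisj : (S : Subgroup G) ⊓ K = ⊥ := by
      have : (Nat.card (S : Subgroup G)).Coprime (Nat.card K) := by
        obtain ⟨a, ha⟩ := IsPGroup.iff_card.1 S.2
        rw [ha]
        exact (Nat.Coprime.pow_right a hKc).symm
      exact (Subgroup.disjoint_of_coprime_natCard this).eq_bot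
    rw [hdisj, Subgroup.card_bot, mul_one] at e1
    rw [sup_comm, e1]
    obtain ⟨m, hm⟩ := hp1
    have e2 := card_mul_relIndex_of_le hKM
    rw [hm] at e2
    have e3 : p ^ m ∣ Nat.card (S : Subgroup G) := by
      rw [hfac S]
      apply pow_dvd_pow
      apply (Nat.Prime.pow_dvd_iff_le_factorization hp.out Nat.card_pos.ne').1
      rw [← e2]
      exact dvd_mul_left _ _
    rw [← e2, mul_comm]
    exact Nat.mul_le_mul_right _ (Nat.le_of_dvd Nat.card_pos e3)
  rw [← hsup] at hl
  obtain ⟨k, hk, s, hs, rfl⟩ := Subgroup.mem_sup_of_normal_left.1 hl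
  refine ⟨k, hk, ?_⟩
  rw [← hc, map_mul, mul_smul, conj_smul_eq_of_mem_normalizer (Subgroup.le_normalizer hs)]

/-- a `K`-element moving an element of `S` into `S` centralises it -/
theorem comm_of_mem {p : ℕ} {K S : Subgroup G} [hK : K.Normal] [Finite G]
    (hKc : (Nat.card K).Coprime p) (hS : IsPGroup p S) [hp : Fact p.Prime] {k y : G} (hk : k ∈ K)
    (hy : y ∈ S) (hky : k * y * k⁻¹ ∈ S) : y * k = k * y := by
  have h1 : k * y * k⁻¹ * y⁻¹ ∈ S := S.mul_mem hky (S.inv_mem hy)
  have h2 : k * y * k⁻¹ * y⁻¹ ∈ K := by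
    have := K.mul_mem hk (hK.conj_mem _ (K.inv_mem hk) y)
    simpa [mul_assoc] using this
  have hdisj : S ⊓ K = ⊥ := by
    have : (Nat.card S).Coprime (Nat.card K) := by
      obtain ⟨a, ha⟩ := IsPGroup.iff_card.1 hS
      rw [ha]
      exact (Nat.Coprime.pow_right a hKc).symm
    exact (Subgroup.disjoint_of_coprime_natCard this).eq_bot
  have h3 : k * y * k⁻¹ * y⁻¹ = 1 := by
    have : k * y * k⁻¹ * y⁻¹ ∈ S ⊓ K := ⟨h1, h2⟩
    rwa [hdisj, Subgroup.mem_bot] at this
  have h4 : k * y = y * k := by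
    have := congrArg (fun z => z * y * k) h3
    simpa [mul_assoc] using this
  exact h4.symm

end Cfsg.Agent.Lib.Helper9.PLen1
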