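import Cfsg.Agent.Lib.Helper3.BaerSuzuki
import Cfsg.Agent.Lib.Helper1.Coprime
import Cfsg.Agent.Lib.Helper1.Misc

set_option autoImplicit false

universe u

namespace Cfsg.Agent.Lib.Helper9.RealOdd

open Cfsg.Agent.Lib.Helper1

/-- A real element of odd order in the quotient by a normal `2`-subgroup lifts to a real
element of odd order. -/
theorem lift_real {G : Type*} [Group G] [Finite G] (O : Subgroup G) [O.Normal] (hO : IsPGroup 2 O)
    (x : G ⧸ O) (hx1 : x ≠ 1) (hxo : Odd (orderOf x)) (hreal : IsConj x x⁻¹) :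
    ∃ h : G, h ≠ 1 ∧ Odd (orderOf h) ∧ IsConj h h⁻¹ := by
  obtain ⟨a, ha⟩ := IsPGroup.iff_card.1 hO
  induction x using QuotientGroup.induction_on with
  | H x0 =>
  obtain ⟨gq, hgq⟩ := isConj_iff.1 hreal
  induction gq using QuotientGroup.induction_on with
  | H g =>
  set m := orderOf (x0 : G ⧸ O) with hm
  have hx0m : x0 ^ m ∈ O := by
    rw [← QuotientGroup.eq_one_iff, QuotientGroup.mk_pow, hm, pow_orderOf_eq_one]
  set h := x0 ^ (2 ^ a) with hh
  have hhm : h ^ m = 1 := by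
    rw [hh, ← pow_mul, mul_comm, pow_mul]
    have := pow_card_eq_one' (G := O) (x := ⟨x0 ^ m, hx0m⟩)
    rw [ha] at this
    exact congrArg Subtype.val this
  have hho : Odd (orderOf h) := hxo.of_dvd_nat (orderOf_dvd_of_pow_eq_one hhm)
  have hcop : (Nat.card (Subgroup.zpowers h)).Coprime (Nat.card O) := by
    rw [Nat.card_zpowers, ha]
    exact (Nat.Coprime.pow_right a (Nat.coprime_two_right.2 hho))
  have hdisj : Subgroup.zpowers h ⊓ O = ⊥ := (Subgroup.disjoint_of_coprime_natCard hcop).eq_bot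
  have hh1 : h ≠ 1 := by
    intro h1
    apply hx1
    have h2 : (x0 : G ⧸ O) ^ (2 ^ a) = 1 := by
      rw [← QuotientGroup.mk_pow, ← hh, h1]; rfl
    have h3 : m ∣ 2 ^ a := orderOf_dvd_of_pow_eq_one h2
    have h4 : m.Coprime (2 ^ a) := Nat.Coprime.pow_right a (Nat.coprime_two_right.2 hxo)
    have h5 : m = 1 := Nat.Coprime.eq_one_of_dvd h4 h3
    exact orderOf_eq_one_iff.1 h5
  -- g h g⁻¹ ≡ h⁻¹ mod O
  have hgh : ((g * h * g⁻¹ : G) : G ⧸ O) = ((h⁻¹ : G) : G ⧸ O) := by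
    have h1 : ((g * h * g⁻¹ : G) : G ⧸ O) = ((g : G ⧸ O) * (x0 : G ⧸ O) * (g : G ⧸ O)⁻¹) ^ (2 ^ a) := by
      rw [conj_pow, hh]; rfl
    rw [h1, hgq, hh, inv_pow]; rfl
  have hB : Subgroup.zpowers (g * h * g⁻¹) ≤ Subgroup.zpowers h ⊔ O := by
    rw [Subgroup.zpowers_le]
    have h1 : h * (g * h * g⁻¹) ∈ O := by
      have := QuotientGroup.eq.1 hgh.symm
      simpa using this
    have h2 : g * h * g⁻¹ = h⁻¹ * (h * (g * h * g⁻¹)) := by group
    rw [h2]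
    exact Subgroup.mul_mem_sup (inv_mem (Subgroup.mem_zpowers h)) h1
  have hBc : Nat.card (Subgroup.zpowers (g * h * g⁻¹)) = Nat.card (Subgroup.zpowers h) := by
    rw [Nat.card_zpowers, Nat.card_zpowers]
    exact Cfsg.Agent.Lib.Helper3.Invol.order_conj g
  have hAN : Subgroup.zpowers h ≤ Subgroup.normalizer (O : Set G) := by
    rw [Subgroup.normalizer_eq_top_iff.2 inferInstance]; exact le_top
  obtain ⟨n, hn, hconj⟩ := coprime_conj O (Subgroup.zpowers h) (Subgroup.zpowers (g * h * g⁻¹))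
    hAN hcop (Or.inl inferInstance) hB hBc
  -- n h n⁻¹ ∈ ⟨g h g⁻¹⟩
  have h1 : n * h * n⁻¹ ∈ Subgroup.zpowers (g * h * g⁻¹) := by
    rw [← hconj, mem_conj_smul]
    have : n⁻¹ * (n * h * n⁻¹) * n = h := by group
    rw [this]; exact Subgroup.mem_zpowers h
  obtain ⟨k, hk⟩ := Subgroup.mem_zpowers_iff.1 h1
  -- s = g⁻¹ n
  have h2 : (g⁻¹ * n) * h * (g⁻¹ * n)⁻¹ = h ^ k := by
    have : (g⁻¹ * n) * h * (g⁻¹ * n)⁻¹ = g⁻¹ * (n * h * n⁻¹) * g := by group
    rw [this, ← hk, conj_zpow]; group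
  have h3 : ((h ^ k : G) : G ⧸ O) = ((h⁻¹ : G) : G ⧸ O) := by
    rw [← h2]
    have hn1 : (n : G ⧸ O) = 1 := (QuotientGroup.eq_one_iff n).2 hn
    have e1 : (((g⁻¹ * n) * h * (g⁻¹ * n)⁻¹ : G) : G ⧸ O) =
        (g : G ⧸ O)⁻¹ * (n : G ⧸ O) * (h : G ⧸ O) * ((g : G ⧸ O)⁻¹ * (n : G ⧸ O))⁻¹ := rfl
    rw [e1, hn1]
    have e2 : (g : G ⧸ O) * (h : G ⧸ O) * (g : G ⧸ O)⁻¹ = (h : G ⧸ O)⁻¹ := hgh
    have e3 : (h : G ⧸ O) = (g : G ⧸ O)⁻¹ * (h : G ⧸ O)⁻¹ * (g : G ⧸ O) := by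
      rw [← e2]; group
    have e4 : ((h⁻¹ : G) : G ⧸ O) = (h : G ⧸ O)⁻¹ := rfl
    rw [e4]
    nth_rewrite 2 [e3]
    group
  have h4 : h ^ k = h⁻¹ := by
    have h5 : (h ^ k)⁻¹ * h⁻¹ ∈ O := QuotientGroup.eq.1 h3
    have h6 : (h ^ k)⁻¹ * h⁻¹ ∈ Subgroup.zpowers h :=
      mul_mem (inv_mem (zpow_mem (Subgroup.mem_zpowers h) k)) (inv_mem (Subgroup.mem_zpowers h))
    have h7 : (h ^ k)⁻¹ * h⁻¹ ∈ Subgroup.zpowers h ⊓ O := ⟨h6, h5⟩
    rw [hdisj, Subgroup.mem_bot] at h7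
    exact (inv_mul_eq_one.1 h7)
  exact ⟨h, hh1, hho, isConj_iff.2 ⟨g⁻¹ * n, by rw [h2, h4]⟩⟩

theorem sylow_normal_aux : ∀ (n : ℕ) (G : Type u) [Group G] [Finite G], Nat.card G = n →
    (∀ x : G, x ≠ 1 → Odd (orderOf x) → ¬ IsConj x x⁻¹) → ∀ P : Sylow 2 G,
    (P : Subgroup G).Normal := by
  intro n
  induction n using Nat.strong_induction_on with
  | _ n ih =>
  intro G _ _ hn hG P
  by_cases heven : 2 ∣ Nat.card G
  · obtain ⟨t, ht⟩ := exists_prime_orderOf_dvd_card' (G := G) 2 heven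
    obtain ⟨N, hN, hNp, htN⟩ : ∃ N : Subgroup G, N.Normal ∧ IsPGroup 2 N ∧ t ∈ N := by
      by_contra hcon
      push Not at hcon
      obtain ⟨h, h1, ho, hinv⟩ := Cfsg.Agent.Lib.Helper3.BaerSuzuki.exists_inverted_odd t ht hcon
      exact hG h h1 ho (isConj_iff.2 ⟨t, hinv⟩)
    have hlt : Nat.card (G ⧸ N) < n := by
      rw [← hn, ← N.card_mul_index, ← Subgroup.index_eq_card]
      have h1 : 1 < Nat.card N := by
        rw [Finite.one_lt_card_iff_nontrivial]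
        exact ⟨⟨⟨t, htN⟩, 1, fun h => by
          have := congrArg Subtype.val h
          simp only [OneMemClass.coe_one] at this
          rw [this] at ht; simp at ht⟩⟩
      have h2 : 0 < N.index := Nat.pos_of_ne_zero Subgroup.index_ne_zero_of_finite
      nlinarith
    have hq : ∀ x : G ⧸ N, x ≠ 1 → Odd (orderOf x) → ¬ IsConj x x⁻¹ := by
      intro x hx1 hxo hreal
      obtain ⟨h, h1, ho, hr⟩ := lift_real N hNp x hx1 hxo hreal
      exact hG h h1 ho hr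
    have hPq := ih _ hlt (G ⧸ N) rfl hq (P.mapSurjective (QuotientGroup.mk'_surjective N))
    rw [Sylow.coe_mapSurjective] at hPq
    have hle : N ≤ P := normal_pgroup_le_sylow hN hNp P
    have h3 := hPq.comap (QuotientGroup.mk' N)
    rw [QuotientGroup.comap_map_mk', sup_eq_right.2 hle] at h3
    exact h3
  · have h1 : Nat.card (P : Subgroup G) = 1 := by
      rw [P.card_eq_multiplicity, Nat.factorization_eq_zero_of_not_dvd heven, pow_zero]
    rw [Subgroup.card_eq_one.1 h1]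
    infer_instance

/-- no nontrivial real elements of odd order implies normal Sylow 2-subgroup -/
theorem sylow_normal {G : Type u} [Group G] [Finite G]
    (hG : ∀ x : G, x ≠ 1 → Odd (orderOf x) → ¬ IsConj x x⁻¹) (P : Sylow 2 G) :
    (P : Subgroup G).Normal := sylow_normal_aux _ G rfl hG P

end Cfsg.Agent.Lib.Helper9.RealOdd
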